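import Cfsg.Agent.H94.Sp.Base_m3
import Mathlib.FieldTheory.Finite.Basic
import Cfsg.Agent.LieClassical.OrthFinite
import Cfsg.Agent.H688.Cov.OMinusFinal_m3
import Cfsg.Agent.H424.Spr.Two
import Cfsg.Agent.H925.OrthBasic
import Cfsg.Agent.FastGrp
import Cfsg.Agent.Prune
set_option linter.all false

section
prune_inst 0x7fbfa9fffbfcc9dfdfff7ff7a69ccdfc3a939fffa6dff94bbfe021df0bdf038809c1f38d89f002fc1fa3c23410a87843fdffdeffea6bd87ffffd1df41ffbee4ff5f7b508519488340fbc2ffe03f0778e7f3ffffffffcffffffffffffffffffbeffbfffffffff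

-- part: H688/Cov/Star
section
prune_inst 0x300000000000000000000000000000000
set_option linter.all false
open scoped Cfsg.Agent.FastGrp

/-!
# S2499: the star lemma (helper688)

`adj` : `g` an isometry with `g ^ (q ^ d + 1) = 1`, irreducible on the `g`-invariant subspace `Y`; `e` commutes with `g` and
preserves `Y`. Then the adjoint of `e` on `Y` is `e ^ (q ^ d)`.
`star` : two such isometries, one of them irreducible on the whole space, commuting with an element `e` generating a field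
of degree 2: `d ≡ d' mod 2`.
-/

set_option autoImplicit false

namespace Cfsg.Agent.H688.Cov

open Module Cfsg.Agent.H182.Cent Polynomial

section

variable {F V : Type*} [Field F] [Finite F] [AddCommGroup V] [Module F V]

/-- an endomorphism commuting with `g` is a polynomial in `g` on a `g`-irreducible subspace -/
theorem exists_aeval {g e : End F V} (hc : Commute e g) {Y : Submodule F V} (hg : Inv g Y) (heY : Inv e Y)
    (hirr : ∀ W ≤ Y, Inv g W → W = ⊥ ∨ W = Y) (hY : Y ≠ ⊥) : ∃ h : F[X], ∀ y ∈ Y, e y = aeval g h y := by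
  obtain ⟨v, hv, hv0⟩ := Submodule.exists_mem_ne_zero_of_ne_bot hY
  -- the cyclic submodule
  let L : F[X] →ₗ[F] V := (LinearMap.applyₗ v).comp (aeval g : F[X] →ₐ[F] End F V).toLinearMap
  have hL : ∀ h, L h = aeval g h v := fun h => rfl
  have hpol : ∀ (h : F[X]) (y : V), y ∈ Y → aeval g h y ∈ Y := by
    intro h y hy
    induction h using Polynomial.induction_on' with
    | add a b ha hb => rw [map_add, LinearMap.add_apply]; exact Y.add_mem ha hb
    | monomial n c =>
      rw [aeval_monomial, Module.End.mul_apply, Module.algebraMap_end_apply]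
      exact Y.smul_mem _ (hg.pow n y hy)
  have hinv : Inv g (LinearMap.range L) := by
    rintro _ ⟨h, rfl⟩
    refine ⟨X * h, ?_⟩
    rw [hL, hL, map_mul, aeval_X, Module.End.mul_apply]
  have hle : LinearMap.range L ≤ Y := by
    rintro _ ⟨h, rfl⟩
    exact hpol h v hv
  have htop : LinearMap.range L = Y := by
    refine (hirr _ hle hinv).resolve_left fun h => hv0 ?_
    have h1 : v ∈ LinearMap.range L := ⟨1, by rw [hL, map_one]; rfl⟩
    rw [h] at h1
    exact (Submodule.mem_bot F).1 h1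
  obtain ⟨h, hh⟩ : e v ∈ LinearMap.range L := by rw [htop]; exact heY v hv
  refine ⟨h, fun y hy => ?_⟩
  rw [← htop] at hy
  obtain ⟨k, rfl⟩ := hy
  have hce : Commute e (aeval g k) := by
    have h1 : ∀ k : F[X], Commute e (aeval g k) := by
      intro k
      induction k using Polynomial.induction_on' with
      | add a b ha hb => rw [map_add]; exact ha.add_right hb
      | monomial n c =>
        rw [aeval_monomial]
        exact Commute.mul_right (Algebra.commutes' c e).symm (hc.pow_right n)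
    exact h1 k
  rw [hL]
  have h2 : e (aeval g k v) = aeval g k (e v) := by
    rw [← Module.End.mul_apply, hce.eq, Module.End.mul_apply]
  rw [h2, ← hh, hL, ← Module.End.mul_apply, ← Module.End.mul_apply, ← map_mul, ← map_mul, mul_comm]

variable {B : V → V → F} (hB : SForm (RingHom.id F) B)

theorem pow_pow_even {R : Type*} [Monoid R] {e : R} {q : ℕ} (h : e ^ (q ^ 2) = e) : ∀ d : ℕ, Even d → e ^ (q ^ d) = e := by
  rintro d ⟨k, rfl⟩
  induction k with
  | zero => simp
  | succ k ih =>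
    rw [show k + 1 + (k + 1) = (k + k) + 2 by ring, pow_add, pow_mul, ih, h]

theorem pow_pow_odd {R : Type*} [Monoid R] {e : R} {q : ℕ} (h : e ^ (q ^ 2) = e) : ∀ d : ℕ, Odd d → e ^ (q ^ d) = e ^ q := by
  rintro d ⟨k, rfl⟩
  rw [pow_succ, pow_mul, pow_pow_even h _ (even_two_mul k)]

end

end Cfsg.Agent.H688.Cov
end

-- part: H424/Spr/O8/Lin
section
prune_inst 0x404200000336200000000809023201c56c2000502004804002ce20f020fc12c62e0c22060ab102405428804c528310020021000104020000000200000011a008000011006b1480200080010000000000000000000300000000000000000000004000000000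
set_option linter.all false
open scoped Cfsg.Agent.FastGrp

/-!
# S3938, `PΩ⁺₈(q)`: linear algebra for the end game (helper424)

* `polar_J`, `polar_J_add` : a linear map `J` with `J² = c J - d`, `Q (J v) = d Q v`;
* `refl_J` : reflections of a plane normalise `F[J]`;
* `exists_eig` : an endomorphism whose conjugate by a reflection commutes with an irreducible one;
* `exists_scal` : all nonsingular vectors are eigenvectors;
* `no_inv` : a plane all of whose images under reflections are `J`-invariant.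
-/

set_option autoImplicit false
set_option linter.unusedSectionVars false

namespace Cfsg.Agent.H424.O8L

open Module QuadraticMap
open Cfsg.Agent.LieClassical.OrthCore Cfsg.Agent.LieClassical.OrthFinite

variable {F : Type*} [Field F] {V : Type*} [AddCommGroup V] [Module F V] {Q : QuadraticForm F V}

theorem Q_lin (a b : F) (v w : V) : Q (a • v + b • w) = a * a * Q v + b * b * Q w + a * b * polar Q v w := by
  rw [Q_add, QuadraticMap.map_smul, QuadraticMap.map_smul, polar_smul_left, polar_smul_right]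
  simp only [smul_eq_mul]
  ring

section J

variable {J : Module.End F V} {c d : F}

theorem d_ne_zero (irr : ∀ z : F, z * z - c * z + d ≠ 0) : d ≠ 0 := by
  have := irr 0
  simpa using this

theorem polar_sim (sim : ∀ v, Q (J v) = d * Q v) (v w : V) : polar Q (J v) (J w) = d * polar Q v w := by
  simp only [polar, ← map_add, sim]
  ring

/-- `b(v, J v) = c Q(v)` -/
theorem polar_J [Finite F] (sq : ∀ v, J (J v) = c • J v - d • v) (irr : ∀ z : F, z * z - c * z + d ≠ 0)
    (sim : ∀ v, Q (J v) = d * Q v) (v : V) : polar Q v (J v) = c * Q v := by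
  have hd := d_ne_zero irr
  have h1 : Q (J (J v)) = d * (d * Q v) := by rw [sim, sim]
  have h2 : Q (J (J v)) = c * c * (d * Q v) + d * d * Q v - c * d * polar Q v (J v) := by
    rw [sq]
    have e : c • J v - d • v = c • J v + (-d) • v := by module
    rw [e, Q_lin, sim, polar_comm Q (J v) v]
    ring
  have h3 : c * d * (polar Q v (J v) - c * Q v) = 0 := by
    linear_combination h2 - h1
  rcases mul_eq_zero.1 h3 with h4 | h4
  · have hc : c = 0 := (mul_eq_zero.1 h4).resolve_right hd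
    subst hc
    have h5 : polar Q (J v) (J (J v)) = d * polar Q v (J v) := polar_sim sim v (J v)
    rw [sq, zero_smul, zero_sub, polar_neg_right, polar_smul_right, polar_comm Q (J v) v] at h5
    have h6 : (2 : F) * (d * polar Q v (J v)) = 0 := by
      simp only [smul_eq_mul] at h5
      linear_combination -h5
    rcases mul_eq_zero.1 h6 with h7 | h7
    · exfalso
      have : CharP F 2 := CharTwo.of_one_ne_zero_of_two_eq_zero one_ne_zero h7
      have := Fintype.ofFinite F
      obtain ⟨z, hz⟩ := FiniteField.isSquare_of_char_two (F := F) (ringChar.eq F 2) d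
      apply irr z
      rw [← hz, zero_mul, sub_zero]
      have : (2 : F) * d = 0 := by rw [h7, zero_mul]
      linear_combination this
    · rw [(mul_eq_zero.1 h7).resolve_left hd, zero_mul]
  · linear_combination h4

/-- no eigenvectors -/
theorem no_eig (sq : ∀ v, J (J v) = c • J v - d • v) (irr : ∀ z : F, z * z - c * z + d ≠ 0) {v : V} (hv : v ≠ 0)
    (z : F) : J v ≠ z • v := by
  intro h
  have h1 := sq v
  rw [h, map_smul, h, smul_smul, smul_smul, ← sub_smul] at h1
  have h2 : (z * z - c * z + d) • v = 0 := by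
    have : (z * z - c * z + d) • v = (z * z) • v - (c * z - d) • v := by module
    rw [this, h1, sub_self]
  rcases smul_eq_zero.1 h2 with h3 | h3
  · exact irr z h3
  · exact hv h3

/-- an invariant nonzero subspace has dimension at least two -/
theorem two_le [FiniteDimensional F V] (sq : ∀ v, J (J v) = c • J v - d • v)
    (irr : ∀ z : F, z * z - c * z + d ≠ 0) {U : Submodule F V} (hU : ∀ v ∈ U, J v ∈ U) {v : V} (hv : v ∈ U)
    (h0 : v ≠ 0) : 2 ≤ finrank F U := by
  have hli : LinearIndependent F ![v, J v] := by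
    rw [LinearIndependent.pair_iff' h0]
    intro z hz
    exact no_eig sq irr h0 z hz.symm
  have h1 := finrank_span_eq_card hli
  have h2 : Submodule.span F (Set.range ![v, J v]) ≤ U := by
    rw [Submodule.span_le]
    rintro _ ⟨i, rfl⟩
    fin_cases i
    · exact hv
    · exact hU v hv
  have h3 := Submodule.finrank_mono h2
  rw [h1, Fintype.card_fin] at h3
  exact h3

/-- a plane invariant under `J` -/
theorem eq_span [FiniteDimensional F V] (sq : ∀ v, J (J v) = c • J v - d • v)
    (irr : ∀ z : F, z * z - c * z + d ≠ 0) {U : Submodule F V} (hU : ∀ v ∈ U, J v ∈ U) (h2 : finrank F U ≤ 2)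
    {v : V} (hv : v ∈ U) (h0 : v ≠ 0) {w : V} (hw : w ∈ U) : ∃ a b : F, w = a • v + b • J v := by
  have hli : LinearIndependent F ![v, J v] := by
    rw [LinearIndependent.pair_iff' h0]
    intro z hz
    exact no_eig sq irr h0 z hz.symm
  have h1 := finrank_span_eq_card hli
  have h2' : Submodule.span F (Set.range ![v, J v]) ≤ U := by
    rw [Submodule.span_le]
    rintro _ ⟨i, rfl⟩
    fin_cases i
    · exact hv
    · exact hU v hv
  have h3 : Submodule.span F (Set.range ![v, J v]) = U := by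
    apply Submodule.eq_of_le_of_finrank_le h2'
    rw [h1, Fintype.card_fin]
    exact h2
  rw [← h3, Matrix.range_cons, Matrix.range_cons, Matrix.range_empty, Set.union_empty, Set.singleton_union,
    Submodule.mem_span_pair] at hw
  obtain ⟨a, b, hab⟩ := hw
  exact ⟨a, b, hab.symm⟩

/-- reflections of a `J`-invariant plane normalise `F[J]` -/
theorem refl_J [Finite F] [FiniteDimensional F V] (sq : ∀ v, J (J v) = c • J v - d • v)
    (irr : ∀ z : F, z * z - c * z + d ≠ 0) (sim : ∀ v, Q (J v) = d * Q v) {U : Submodule F V}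
    (hU : ∀ v ∈ U, J v ∈ U) (h2 : finrank F U ≤ 2) {w : V} (hw : w ∈ U) (hQ : Q w ≠ 0) {v : V} (hv : v ∈ U) :
    reflLin Q w (J (reflLin Q w v)) = c • v - J v := by
  have h0 : w ≠ 0 := by
    rintro rfl
    exact hQ (QuadraticMap.map_zero Q)
  have r1 : reflLin Q w w = -w := by
    rw [reflLin_apply, polar_self']
    have : (Q w)⁻¹ * (2 * Q w) = 2 := by field_simp
    rw [this]
    module
  have r2 : reflLin Q w (J w) = J w - c • w := by
    rw [reflLin_apply, polar_J sq irr sim]
    have : (Q w)⁻¹ * (c * Q w) = c := by field_simp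
    rw [this]
  obtain ⟨a, b, rfl⟩ := eq_span sq irr hU h2 hw h0 hv
  rw [map_add, map_smul, map_smul, r1, r2]
  simp only [map_add, map_sub, map_smul, map_neg, r1, r2, sq]
  module

/-- `J`-invariant planes are anisotropic or totally singular -/
theorem aniso [Finite F] [FiniteDimensional F V] (sq : ∀ v, J (J v) = c • J v - d • v)
    (irr : ∀ z : F, z * z - c * z + d ≠ 0) (sim : ∀ v, Q (J v) = d * Q v) {U : Submodule F V}
    (hU : ∀ v ∈ U, J v ∈ U) (h2 : finrank F U ≤ 2) {w : V} (hw : w ∈ U) (h0 : w ≠ 0) (hQ : Q w = 0) :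
    ∀ v ∈ U, polar Q w v = 0 := by
  intro v hv
  obtain ⟨a, b, rfl⟩ := eq_span sq irr hU h2 hw h0 hv
  rw [polar_add_right, polar_smul_right, polar_smul_right, polar_self', polar_J sq irr sim, hQ]
  simp

end J

/-- an anisotropic plane represents every element -/
theorem exists_val [Finite F] [FiniteDimensional F V] {U : Submodule F V} (h2 : finrank F U = 2)
    (han : ∀ w ∈ U, w ≠ 0 → Q w ≠ 0) (a : F) : ∃ w ∈ U, Q w = a := by
  let bs := Module.finBasisOfFinrankEq F U h2
  let u : V := U.subtype (bs 0)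
  let v : V := U.subtype (bs 1)
  obtain ⟨x, hx0, hx⟩ := exists_ternary_zero (Q u) (Q v) (-a) (polar Q u v) 0 0
  have hli : LinearIndependent F ![u, v] := by
    have h := bs.linearIndependent.map' U.subtype (Submodule.ker_subtype U)
    have e : U.subtype ∘ bs = ![u, v] := by
      funext i
      fin_cases i <;> rfl
    rwa [e] at h
  have hmem : x 0 • u + x 1 • v ∈ U := U.add_mem (U.smul_mem _ (bs 0).2) (U.smul_mem _ (bs 1).2)
  have hQ : Q (x 0 • u + x 1 • v) = a * (x 2 * x 2) := by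
    rw [Q_lin]
    linear_combination hx
  have h2 : x 2 ≠ 0 := by
    intro h
    rw [h, mul_zero, mul_zero] at hQ
    have h3 : x 0 • u + x 1 • v = 0 := by
      by_contra h4
      exact han _ hmem h4 hQ
    obtain ⟨h5, h6⟩ := LinearIndependent.pair_iff.1 hli _ _ h3
    apply hx0
    funext i
    fin_cases i
    · exact h5
    · exact h6
    · exact h
  refine ⟨(x 2)⁻¹ • (x 0 • u + x 1 • v), U.smul_mem _ hmem, ?_⟩
  rw [QuadraticMap.map_smul, hQ, smul_eq_mul]
  field_simp

section count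

variable [Finite F] (hq : 4 ≤ Nat.card F)
include hq

theorem exists_three (s₀ : F) : ∃ s₁ s₂ s₃ : F, s₁ ≠ s₀ ∧ s₂ ≠ s₀ ∧ s₃ ≠ s₀ ∧ s₁ ≠ s₂ ∧ s₁ ≠ s₃ ∧ s₂ ≠ s₃ := by
  classical
  have := Fintype.ofFinite F
  rw [Nat.card_eq_fintype_card] at hq
  have h1 : 2 < (Finset.univ.erase s₀ : Finset F).card := by
    rw [Finset.card_erase_of_mem (Finset.mem_univ _), Finset.card_univ]
    omega
  obtain ⟨s₁, m1, s₂, m2, s₃, m3, h12, h13, h23⟩ := Finset.two_lt_card.1 h1
  exact ⟨s₁, s₂, s₃, (Finset.mem_erase.1 m1).1, (Finset.mem_erase.1 m2).1, (Finset.mem_erase.1 m3).1, h12, h13, h23⟩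

theorem zero_of_all {a b c : F} {s₀ : F} (h : ∀ s, s ≠ s₀ → a + s * b + s * s * c = 0) : a = 0 ∧ b = 0 ∧ c = 0 := by
  obtain ⟨s₁, s₂, s₃, m1, m2, m3, h12, h13, h23⟩ := exists_three hq s₀
  have e1 := h _ m1
  have e2 := h _ m2
  have e3 := h _ m3
  have f1 : b + (s₁ + s₂) * c = 0 := by
    have : (s₁ - s₂) * (b + (s₁ + s₂) * c) = 0 := by linear_combination e1 - e2
    exact (mul_eq_zero.1 this).resolve_left (sub_ne_zero.2 h12)
  have f2 : b + (s₁ + s₃) * c = 0 := by
    have : (s₁ - s₃) * (b + (s₁ + s₃) * c) = 0 := by linear_combination e1 - e3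
    exact (mul_eq_zero.1 this).resolve_left (sub_ne_zero.2 h13)
  have hc : c = 0 := by
    have : (s₂ - s₃) * c = 0 := by linear_combination f1 - f2
    exact (mul_eq_zero.1 this).resolve_left (sub_ne_zero.2 h23)
  subst hc
  have hb : b = 0 := by linear_combination f1
  subst hb
  exact ⟨by linear_combination e1, rfl, rfl⟩

/-- two values of a quadratic polynomial are not zero -/
theorem exists_two {a b c : F} (hc : c ≠ 0) : ∃ s₁ s₂ : F, s₁ ≠ s₂ ∧ a + s₁ * b + s₁ * s₁ * c ≠ 0 ∧
    a + s₂ * b + s₂ * s₂ * c ≠ 0 := by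
  by_contra hcon
  push Not at hcon
  by_cases h : ∃ s₀, a + s₀ * b + s₀ * s₀ * c ≠ 0
  · obtain ⟨s₀, hs₀⟩ := h
    exact hc (zero_of_all hq (s₀ := s₀) fun s hs => hcon s₀ s hs.symm hs₀).2.2
  · push Not at h
    exact hc (zero_of_all hq (s₀ := 0) fun s _ => h s).2.2

end count

/-- **an endomorphism whose conjugate by a reflection commutes with an irreducible one** -/
theorem exists_eig [FiniteDimensional F V] {A : Submodule F V}
    (hA : ∀ v ∈ A, (∀ w ∈ A, polar Q v w = 0) → v = 0) (h3 : 3 ≤ finrank F A) {X T : Module.End F V}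
    (hX : ∀ v ∈ A, X v ∈ A) (irr : ∀ K : Submodule F V, K ≤ A → (∀ v ∈ K, X v ∈ K) → K = ⊥ ∨ K = A)
    (h1 : ∀ v ∈ A, T (X v) = X (T v)) {u : V} (hu : u ∈ A) (hQ : Q u ≠ 0)
    (h2 : ∀ v ∈ A, reflLin Q u (T (reflLin Q u (X v))) = X (reflLin Q u (T (reflLin Q u v)))) :
    ∃ μ : F, T u = μ • u := by
  let K : Submodule F V := A ⊓ LinearMap.ker (T - (reflLin Q u) ∘ₗ T ∘ₗ (reflLin Q u))
  have hK : ∀ v, v ∈ K ↔ v ∈ A ∧ T v = reflLin Q u (T (reflLin Q u v)) := by
    intro v
    rw [Submodule.mem_inf, LinearMap.mem_ker, LinearMap.sub_apply, sub_eq_zero]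
    rfl
  have hKA : K = A := by
    refine (irr K inf_le_left fun v hv => ?_).resolve_left ?_
    · obtain ⟨g1, g2⟩ := (hK v).1 hv
      exact (hK _).2 ⟨hX v g1, by rw [h1 v g1, g2, h2 v g1]⟩
    · let f : A →ₗ[F] F × F := (((polarBilin Q u).comp A.subtype).prod ((polarBilin Q u).comp (T.comp A.subtype)))
      have h4 : LinearMap.ker f ≠ ⊥ := by
        apply LinearMap.ker_ne_bot_of_finrank_lt
        rw [Module.finrank_prod, Module.finrank_self]
        omega
      obtain ⟨v, hv, hv0⟩ := (Submodule.ne_bot_iff _).1 h4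
      rw [LinearMap.mem_ker] at hv
      have e1 : polar Q u v = 0 := congrArg Prod.fst hv
      have e2 : polar Q u (T v) = 0 := congrArg Prod.snd hv
      intro hb
      apply hv0
      have h5 : (v : V) ∈ K := by
        rw [hK]
        refine ⟨v.2, ?_⟩
        have e3 : reflLin Q u (v : V) = v := by rw [reflLin_apply, e1, mul_zero, zero_smul, sub_zero]
        rw [e3, reflLin_apply, e2, mul_zero, zero_smul, sub_zero]
      rw [hb, Submodule.mem_bot] at h5
      exact Subtype.ext h5
  obtain ⟨v, hv, hv0⟩ : ∃ v ∈ A, polar Q u v ≠ 0 := by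
    by_contra hcon
    push Not at hcon
    have : u = 0 := hA u hu hcon
    apply hQ
    rw [this, QuadraticMap.map_zero]
  have h4 : v ∈ K := by rw [hKA]; exact hv
  have h5 := ((hK v).1 h4).2
  have h6 : reflLin Q u (T v) = T (reflLin Q u v) := by
    rw [h5, reflLin_reflLin hQ]
  rw [reflLin_apply, reflLin_apply, map_sub, map_smul, sub_right_inj, mul_smul, mul_smul] at h6
  have h7 := smul_right_injective V (inv_ne_zero hQ) h6
  refine ⟨(polar Q u v)⁻¹ * polar Q u (T v), ?_⟩
  rw [mul_smul, h7, smul_smul, inv_mul_cancel₀ hv0, one_smul]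

/-- **all nonsingular vectors are eigenvectors** -/
theorem exists_scal [Finite F] (hq : 4 ≤ Nat.card F) {A : Submodule F V} {T : Module.End F V}
    (h : ∀ u ∈ A, Q u ≠ 0 → ∃ μ : F, T u = μ • u) {u₀ : V} (hu₀ : u₀ ∈ A) (hQ₀ : Q u₀ ≠ 0) :
    ∃ μ : F, ∀ v ∈ A, T v = μ • v := by
  obtain ⟨l, hl⟩ := h u₀ hu₀ hQ₀
  refine ⟨l, fun v hv => ?_⟩
  have hu0 : u₀ ≠ 0 := by
    rintro rfl
    exact hQ₀ (QuadraticMap.map_zero Q)
  by_cases hd : ∃ z : F, z • u₀ = v
  · obtain ⟨z, rfl⟩ := hd
    rw [map_smul, hl, smul_comm]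
  · push Not at hd
    have hli : LinearIndependent F ![u₀, v] := (LinearIndependent.pair_iff' hu0).2 hd
    have hval : ∀ s : F, Q (v + s • u₀) = Q v + s * polar Q v u₀ + s * s * Q u₀ := by
      intro s
      rw [Q_add, QuadraticMap.map_smul, polar_smul_right, smul_eq_mul, smul_eq_mul]
      ring
    obtain ⟨s₁, s₂, hs, n1, n2⟩ := exists_two hq (a := Q v) (b := polar Q v u₀) hQ₀
    rw [← hval] at n1 n2
    obtain ⟨m₁, hm₁⟩ := h _ (A.add_mem hv (A.smul_mem s₁ hu₀)) n1
    obtain ⟨m₂, hm₂⟩ := h _ (A.add_mem hv (A.smul_mem s₂ hu₀)) n2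
    rw [map_add, map_smul, hl] at hm₁ hm₂
    have e1 : (m₁ * s₁ - s₁ * l - (m₂ * s₂ - s₂ * l)) • u₀ + (m₁ - m₂) • v = 0 := by
      have f1 : T v = m₁ • (v + s₁ • u₀) - s₁ • l • u₀ := by rw [← hm₁]; abel
      have f2 : T v = m₂ • (v + s₂ • u₀) - s₂ • l • u₀ := by rw [← hm₂]; abel
      have f3 : m₁ • (v + s₁ • u₀) - s₁ • l • u₀ - (m₂ • (v + s₂ • u₀) - s₂ • l • u₀) = 0 := by
        rw [← f1, ← f2, sub_self]
      rw [← f3]
      module
    obtain ⟨g1, g2⟩ := LinearIndependent.pair_iff.1 hli _ _ e1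
    have g3 : m₁ = m₂ := sub_eq_zero.1 g2
    have g4 : (s₁ - s₂) * (m₁ - l) = 0 := by
      rw [← g3] at g1
      linear_combination g1
    have g5 : m₁ = l := sub_eq_zero.1 ((mul_eq_zero.1 g4).resolve_left (sub_ne_zero.2 hs))
    have f1 : T v = m₁ • (v + s₁ • u₀) - s₁ • l • u₀ := by rw [← hm₁]; abel
    rw [f1, g5]
    module

theorem perp_line {A : Submodule F V} (hA : ∀ v ∈ A, (∀ w ∈ A, polar Q v w = 0) → v = 0) {b h : V} (hb : b ∈ A)
    (hb0 : b ≠ 0) (hh : h ∈ A) (hp : ∀ v ∈ A, polar Q b v = 0 → polar Q h v = 0) : ∃ μ : F, h = μ • b := by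
  obtain ⟨z, hz, hz0⟩ : ∃ z ∈ A, polar Q b z ≠ 0 := by
    by_contra hcon
    push Not at hcon
    exact hb0 (hA b hb hcon)
  refine ⟨polar Q h z * (polar Q b z)⁻¹, ?_⟩
  rw [← sub_eq_zero]
  apply hA _ (A.sub_mem hh (A.smul_mem _ hb))
  intro v hv
  have h1 := hp (v - (polar Q b v * (polar Q b z)⁻¹) • z) (A.sub_mem hv (A.smul_mem _ hz)) (by
    rw [polar_sub_right, polar_smul_right, smul_eq_mul]
    field_simp
    ring)
  rw [polar_sub_right, polar_smul_right, smul_eq_mul] at h1
  rw [polar_sub_left, polar_smul_left, smul_eq_mul]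
  linear_combination h1

/-- **a plane with all its images under reflections `J`-invariant** -/
theorem no_inv [Finite F] [FiniteDimensional F V] (hq : 4 ≤ Nat.card F) {A : Submodule F V}
    (hA : ∀ v ∈ A, (∀ w ∈ A, polar Q v w = 0) → v = 0) (h5 : 5 ≤ finrank F A) {J : Module.End F V} {c d : F}
    (sq : ∀ v, J (J v) = c • J v - d • v) (irr : ∀ z : F, z * z - c * z + d ≠ 0) {U : Submodule F V}
    (hUA : U ≤ A) (h0 : U ≠ ⊥) (h2 : finrank F U ≤ 2) (hU : ∀ v ∈ U, J v ∈ U)
    (hR : ∀ u ∈ A, Q u ≠ 0 → ∀ v, reflLin Q u v ∈ U → reflLin Q u (J v) ∈ U) : False := by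
  obtain ⟨b, hb, hb0⟩ := (Submodule.ne_bot_iff _).1 h0
  have hJb := hU b hb
  have key : ∀ u ∈ A, Q u ≠ 0 → polar Q b u = 0 → polar Q (J b) u ≠ 0 → u ∈ U := by
    intro u hu hQ h1 h3
    have h4 := hR u hu hQ b (by
      rw [reflLin_apply, polar_comm Q u b, h1, mul_zero, zero_smul, sub_zero]
      exact hb)
    rw [reflLin_apply, polar_comm Q u] at h4
    have h6 : ((Q u)⁻¹ * polar Q (J b) u) • u ∈ U := by
      have := U.sub_mem hJb h4
      rwa [sub_sub_cancel] at this
    exact (Submodule.smul_mem_iff _ (mul_ne_zero (inv_ne_zero hQ) h3)).1 h6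
  obtain ⟨u₁, hu₁, k1, k2⟩ : ∃ u ∈ A, polar Q b u = 0 ∧ polar Q (J b) u ≠ 0 := by
    by_contra hcon
    push Not at hcon
    obtain ⟨μ, hμ⟩ := perp_line hA (hUA hb) hb0 (hUA hJb) hcon
    exact no_eig sq irr hb0 μ hμ
  obtain ⟨h, hhA, hhU, m1, m2⟩ : ∃ h ∈ A, h ∉ U ∧ polar Q b h = 0 ∧ polar Q (J b) h = 0 := by
    by_contra hcon
    push Not at hcon
    let f : A →ₗ[F] F × F := (((polarBilin Q b).comp A.subtype).prod ((polarBilin Q (J b)).comp A.subtype))
    have h6 : (LinearMap.ker f).map A.subtype ≤ U := by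
      rintro _ ⟨v, hv, rfl⟩
      by_contra hvU
      exact hcon v v.2 hvU (congrArg Prod.fst (LinearMap.mem_ker.1 hv)) (congrArg Prod.snd (LinearMap.mem_ker.1 hv))
    have h7 := Submodule.finrank_mono h6
    rw [Submodule.finrank_map_subtype_eq] at h7
    have h8 := LinearMap.finrank_range_add_finrank_ker f
    have h9 : finrank F (LinearMap.range f) ≤ 2 := by
      have := Submodule.finrank_le (LinearMap.range f)
      rwa [Module.finrank_prod, Module.finrank_self] at this
    omega
  have main : ∀ u ∈ A, polar Q b u = 0 → polar Q (J b) u ≠ 0 → polar Q u h = 0 := by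
    intro u hu h1 h3
    have h6 : ∀ s : F, u + s • h ∈ U ∨ Q (u + s • h) = 0 := by
      intro s
      by_contra hcon
      push Not at hcon
      apply hcon.1
      apply key _ (A.add_mem hu (A.smul_mem s hhA)) hcon.2
      · rw [polar_add_right, polar_smul_right, h1, m1, smul_zero, add_zero]
      · rw [polar_add_right, polar_smul_right, m2, smul_zero, add_zero]
        exact h3
    have h7 : ∃ s₀ : F, ∀ s, s ≠ s₀ → Q (u + s • h) = 0 := by
      by_cases h8 : ∃ s₀ : F, u + s₀ • h ∈ U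
      · obtain ⟨s₀, hs₀⟩ := h8
        refine ⟨s₀, fun s hs => (h6 s).resolve_left fun h9 => hhU ?_⟩
        have h10 := U.sub_mem h9 hs₀
        have h11 : (u + s • h) - (u + s₀ • h) = (s - s₀) • h := by module
        rw [h11] at h10
        exact (Submodule.smul_mem_iff _ (sub_ne_zero.2 hs)).1 h10
      · push Not at h8
        exact ⟨0, fun s _ => (h6 s).resolve_left (h8 s)⟩
    obtain ⟨s₀, hs₀⟩ := h7
    refine (zero_of_all hq (a := Q u) (b := polar Q u h) (c := Q h) (s₀ := s₀) fun s hs => ?_).2.1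
    rw [← hs₀ s hs, Q_add, QuadraticMap.map_smul, polar_smul_right, smul_eq_mul, smul_eq_mul]
    ring
  obtain ⟨μ, hμ⟩ := perp_line hA (hUA hb) hb0 hhA fun v hv hbv => by
    by_cases h6 : polar Q (J b) v = 0
    · have h7 := main (u₁ + v) (A.add_mem hu₁ hv) (by rw [polar_add_right, k1, hbv, add_zero]) (by
        rw [polar_add_right, h6, add_zero]
        exact k2)
      rw [polar_add_left, main u₁ hu₁ k1 k2, zero_add] at h7
      rw [polar_comm]
      exact h7
    · rw [polar_comm]
      exact main v hv hbv h6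
  exact hhU (hμ ▸ U.smul_mem μ hb)

end Cfsg.Agent.H424.O8L
end

-- part: H688/Spr/Herm
section
prune_inst 0x404600000310000000000858203001c46c6000500000b04002c820d020d812c22a0410620bf900000009800c44838000000100000020000000a000400011800800080100420400000000010000000000000000000000000000000000000000004000000000
set_option linter.all false
open scoped Cfsg.Agent.FastGrp

/-!
# S3938: a uniserial isometry of the space of plus type of dimension `4 h` (helper688)

`K` the field with `q ^ (2 h)` elements, `σ` the involution of `K`, `hermQ σ (x, y) = tr (x σ(y))` on `K × K`,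
`Tm c ε (x, y) = (c (x + ε y), c y)` with `c σ(c) = 1`, `ε = δ - σ(δ) ≠ 0` and `F[c] = K`: an isometry whose only proper
invariant subspace is `K × 0`.
-/

set_option autoImplicit false
set_option linter.unusedSectionVars false

namespace Cfsg.Agent.H688.Spr

open Module Cfsg.Agent.H688.Cov
open Cfsg.Agent.LieClassical.OrthCore (Nondeg)
open Cfsg.Agent.H377 (HasSign hasSign_mul)

universe u w

section

variable {F : Type u} [Field F] [Finite F] {K : Type w} [Field K] [Finite K] [Algebra F K]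

/-- the form `tr (x σ(y))` -/
noncomputable def hermQ (σ : K ≃ₐ[F] K) : QuadraticForm F (K × K) :=
  (trQ F K).comp ((LinearMap.id : K →ₗ[F] K).prodMap σ.toLinearMap)

theorem hermQ_apply (σ : K ≃ₐ[F] K) (v : K × K) : hermQ σ v = Algebra.trace F K (v.1 * σ v.2) := rfl

theorem hermQ_polar (σ : K ≃ₐ[F] K) (v w : K × K) : QuadraticMap.polar (hermQ σ) v w =
    Algebra.trace F K (v.1 * σ w.2) + Algebra.trace F K (w.1 * σ v.2) := by
  rw [QuadraticMap.polar, hermQ_apply, hermQ_apply, hermQ_apply, Prod.fst_add, Prod.snd_add, map_add, add_mul, mul_add,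
    mul_add, map_add, map_add, map_add]
  ring

theorem hermQ_nondeg (σ : K ≃ₐ[F] K) : Nondeg (hermQ σ) := by
  intro v hv
  have h1 : ((LinearMap.id : K →ₗ[F] K).prodMap σ.toLinearMap) v = 0 := by
    apply trQ_nondeg (F := F)
    intro w
    have h2 := hv (w.1, σ.symm w.2)
    have h3 : ((LinearMap.id : K →ₗ[F] K).prodMap σ.toLinearMap) (w.1, σ.symm w.2) = w :=
      Prod.ext rfl (σ.apply_symm_apply w.2)
    rw [← h3]
    rw [QuadraticMap.polar] at h2 ⊢
    rw [← map_add]
    exact h2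
  have h5 := congrArg Prod.fst h1
  refine Prod.ext h5 ?_
  have h4 : σ v.2 = 0 := by
    have h6 := congrArg Prod.snd h1
    exact h6
  exact (map_eq_zero σ).1 h4

theorem hermQ_sign (σ : K ≃ₐ[F] K) : HasSign (⇑(hermQ σ)) (finrank F K) 1 := by
  have h := (hasSign_mul (F := K)).res (F := F)
  rw [mul_one] at h
  refine h.congr ((Equiv.refl K).prodCongr σ.symm.toEquiv) fun v => ?_
  rw [hermQ_apply]
  change Algebra.trace F K (v.1 * σ (σ.symm v.2)) = _
  rw [σ.apply_symm_apply]

/-- the isometry -/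
noncomputable def Tm (F : Type u) [Field F] [Algebra F K] (c ε : K) : Module.End F (K × K) :=
  ((Algebra.lmul F K c).comp ((LinearMap.fst F K K) + (Algebra.lmul F K ε).comp (LinearMap.snd F K K))).prod
    ((Algebra.lmul F K c).comp (LinearMap.snd F K K))

theorem Tm_apply (c ε : K) (v : K × K) : Tm F c ε v = (c * (v.1 + ε * v.2), c * v.2) := rfl

theorem Tm_mul (c ε c' ε' : K) : Tm F c ε * Tm F c' ε' = Tm F (c * c') (ε + ε') := by
  apply LinearMap.ext
  intro v
  rw [Module.End.mul_apply, Tm_apply, Tm_apply, Tm_apply]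
  refine Prod.ext ?_ ?_
  · change c * (c' * (v.1 + ε' * v.2) + ε * (c' * v.2)) = c * c' * (v.1 + (ε + ε') * v.2)
    ring
  · change c * (c' * v.2) = c * c' * v.2
    ring

theorem Tm_one : Tm F (1 : K) 0 = 1 := by
  apply LinearMap.ext
  intro v
  rw [Tm_apply]
  refine Prod.ext ?_ ?_
  · change 1 * (v.1 + 0 * v.2) = v.1
    ring
  · change 1 * v.2 = v.2
    ring

theorem Tm_pow (c ε : K) (n : ℕ) : Tm F c ε ^ n = Tm F (c ^ n) (n * ε) := by
  induction n with
  | zero => rw [pow_zero, pow_zero, Nat.cast_zero, zero_mul, Tm_one]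
  | succ n ih =>
    rw [pow_succ, ih, Tm_mul, pow_succ, Nat.cast_succ]
    congr 1
    ring

theorem Tm_isom {σ : K ≃ₐ[F] K} (hσ : ∀ x, σ (σ x) = x) {c ε δ : K} (hc : c * σ c = 1) (hε : ε = δ - σ δ)
    (v : K × K) : hermQ σ (Tm F c ε v) = hermQ σ v := by
  have htr : ∀ x : K, Algebra.trace F K (σ x) = Algebra.trace F K x := fun x => Algebra.trace_eq_of_algEquiv σ x
  rw [hermQ_apply, hermQ_apply, Tm_apply]
  change Algebra.trace F K (c * (v.1 + ε * v.2) * σ (c * v.2)) = _
  have h1 : c * (v.1 + ε * v.2) * σ (c * v.2) = v.1 * σ v.2 + (δ * (v.2 * σ v.2) - σ (δ * (v.2 * σ v.2))) := by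
    rw [map_mul, map_mul, map_mul, hσ, hε]
    have h2 : c * (v.1 + (δ - σ δ) * v.2) * (σ c * σ v.2) = (c * σ c) * ((v.1 + (δ - σ δ) * v.2) * σ v.2) := by ring
    rw [h2, hc]
    ring
  rw [h1, map_add, map_sub, htr, sub_self, add_zero]

/-- the numerical data -/
structure HD (h : ℕ) (σ : K ≃ₐ[F] K) (c ε : K) : Prop where
  pos : 1 ≤ h
  invol : ∀ x, σ (σ x) = x
  frob : ∀ x, σ x = x ^ (Nat.card F ^ h)
  dim : finrank F K = 2 * h
  unit : c * σ c = 1
  ord : orderOf c = Nat.card F ^ h + 1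
  eps : ∃ δ, ε = δ - σ δ
  eps0 : ε ≠ 0
  beta : ∃ β : K, β ≠ 0 ∧ c = β * (σ β)⁻¹
  gen : ∀ k : K, k ∈ Algebra.adjoin F {c}

/-- existence of the data -/
theorem exists_HD (F : Type u) [Field F] [Finite F] {h : ℕ} (hh : 1 ≤ h) :
    ∃ (K : Type) (_ : Field K) (_ : Finite K) (_ : Algebra F K) (σ : K ≃ₐ[F] K) (c ε : K), HD h σ c ε := by
  have := Fintype.ofFinite F
  obtain ⟨p, _⟩ := CharP.exists F
  have : Fact p.Prime := ⟨CharP.char_is_prime F p⟩
  have : NeZero (2 * h) := ⟨by omega⟩
  have hq : 1 < Nat.card F := Finite.one_lt_card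
  let K := FiniteField.Extension F p (2 * h)
  have hfin : Finite K := inferInstance
  have hdim : finrank F K = 2 * h := FiniteField.finrank_extension (k := F) (p := p) (n := 2 * h)
  have hcardK : Nat.card K = Nat.card F ^ (2 * h) := FiniteField.natCard_extension (k := F) (p := p) (n := 2 * h)
  let σ : K ≃ₐ[F] K := (FiniteField.frobeniusAlgEquivOfAlgebraic F K) ^ h
  have hσ : ∀ x : K, σ x = x ^ (Nat.card F ^ h) := by
    intro x
    have h1 : ∀ n : ℕ, ((FiniteField.frobeniusAlgEquivOfAlgebraic F K) ^ n) x = x ^ (Nat.card F ^ n) := by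
      intro n
      induction n with
      | zero => rw [pow_zero, pow_zero, pow_one]; rfl
      | succ n ih =>
        rw [pow_succ', AlgEquiv.mul_apply, ih, FiniteField.coe_frobeniusAlgEquivOfAlgebraic, ← Nat.card_eq_fintype_card]
        change (x ^ Nat.card F ^ n) ^ Nat.card F = _
        rw [← pow_mul, pow_succ]
    exact h1 h
  have hpowK : ∀ x : K, x ^ (Nat.card F ^ (2 * h)) = x := by
    intro x
    have := Fintype.ofFinite K
    rw [← hcardK, Nat.card_eq_fintype_card]
    exact FiniteField.pow_card x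
  have hinv : ∀ x, σ (σ x) = x := by
    intro x
    rw [hσ, hσ, ← pow_mul, ← pow_add, ← two_mul, hpowK]
  obtain ⟨b, hb⟩ := IsCyclic.exists_ofOrder_eq_natCard (α := Kˣ)
  have hcardu : Nat.card Kˣ = Nat.card F ^ (2 * h) - 1 := by rw [Nat.card_units, hcardK]
  have hfac : Nat.card F ^ (2 * h) - 1 = (Nat.card F ^ h - 1) * (Nat.card F ^ h + 1) := by
    have h3 := Nat.sq_sub_sq (Nat.card F ^ h) 1
    rw [one_pow, ← pow_mul, mul_comm h 2] at h3
    rw [h3, mul_comm]
  have hqh : 1 < Nat.card F ^ h := Nat.one_lt_pow (by omega) hq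
  -- the element `c`
  let cu : Kˣ := (b ^ (Nat.card F ^ h - 1))⁻¹
  have hcu : orderOf cu = Nat.card F ^ h + 1 := by
    rw [orderOf_inv, orderOf_pow, hb, hcardu, hfac, Nat.gcd_eq_right (Dvd.intro _ rfl)]
    exact Nat.mul_div_cancel_left _ (by omega)
  have hcb : (cu : K) = (b : K) * (σ (b : K))⁻¹ := by
    rw [hσ]
    have h1 : (b : K) ^ (Nat.card F ^ h) = (b : K) ^ (Nat.card F ^ h - 1) * b := by
      rw [← pow_succ, Nat.sub_add_cancel hqh.le]
    rw [h1, mul_inv, mul_comm ((b : K) ^ (Nat.card F ^ h - 1))⁻¹, ← mul_assoc, mul_inv_cancel₀ (Units.ne_zero b),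
      one_mul]
    simp [cu]
  have hord : orderOf (cu : K) = Nat.card F ^ h + 1 := by rw [orderOf_units, hcu]
  have hunit : (cu : K) * σ (cu : K) = 1 := by
    rw [hcb, map_mul, map_inv₀, hinv]
    have h1 : (b : K) ≠ 0 := Units.ne_zero b
    have h2 : σ (b : K) ≠ 0 := (map_ne_zero σ).2 h1
    rw [mul_assoc, ← mul_assoc (σ (b : K))⁻¹, inv_mul_cancel₀ h2, one_mul, mul_inv_cancel₀ h1]
  -- `δ`
  obtain ⟨δ, hδ⟩ : ∃ δ : K, σ δ ≠ δ := by
    refine ⟨b, fun h1 => ?_⟩
    have h2 : (cu : K) = 1 := by rw [hcb, h1, mul_inv_cancel₀ (Units.ne_zero b)]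
    rw [h2, orderOf_one] at hord
    omega
  refine ⟨K, inferInstance, hfin, inferInstance, σ, cu, δ - σ δ, hh, hinv, hσ, hdim, hunit, hord, ⟨δ, rfl⟩,
    sub_ne_zero.2 (Ne.symm hδ), ⟨b, Units.ne_zero b, hcb⟩, ?_⟩
  -- generation
  have hfd : FiniteDimensional F K := Module.Finite.of_finite
  have hint : IsIntegral F (cu : K) := Algebra.IsIntegral.isIntegral _
  set L := IntermediateField.adjoin F {(cu : K)} with hL
  have hdL : finrank F L * finrank L K = 2 * h := by rw [Module.finrank_mul_finrank, hdim]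
  have hcardL : Nat.card L = Nat.card F ^ finrank F L := Module.natCard_eq_pow_finrank (K := F)
  have hcL : (cu : K) ^ (Nat.card F ^ finrank F L - 1) = 1 := by
    have hmem : (cu : K) ∈ L := IntermediateField.mem_adjoin_simple_self F (cu : K)
    have := Fintype.ofFinite L
    have h1 := FiniteField.pow_card_sub_one_eq_one (⟨cu, hmem⟩ : L) (by
      intro h0
      exact Units.ne_zero cu (congrArg Subtype.val h0))
    rw [← Nat.card_eq_fintype_card, hcardL] at h1
    exact congrArg Subtype.val h1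
  have hdvd : Nat.card F ^ h + 1 ∣ Nat.card F ^ finrank F L - 1 := by
    rw [← hord]
    exact orderOf_dvd_of_pow_eq_one hcL
  have hL0 : 0 < finrank F L := Module.finrank_pos
  have hLtop : finrank F L = finrank F K := by
    rw [hdim]
    by_contra hne
    have h1 : 2 ≤ finrank L K := by
      have h2 : finrank L K ≠ 0 := by
        intro h0
        rw [h0, mul_zero] at hdL
        omega
      have h3 : finrank L K ≠ 1 := by
        intro h0
        rw [h0, mul_one] at hdL
        exact hne hdL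
      omega
    have h2 : finrank F L ≤ h := by
      have h3 : finrank F L * 2 ≤ finrank F L * finrank L K := Nat.mul_le_mul_left _ h1
      omega
    have h3 : Nat.card F ^ finrank F L ≤ Nat.card F ^ h := Nat.pow_le_pow_right (by omega) h2
    have h4 : 1 < Nat.card F ^ finrank F L := Nat.one_lt_pow (by omega) hq
    have h5 := Nat.le_of_dvd (by omega) hdvd
    omega
  have htop : L = ⊤ := by
    apply IntermediateField.eq_of_le_of_finrank_eq le_top
    rw [hLtop, IntermediateField.finrank_top']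
  intro k
  have h1 : k ∈ L := by rw [htop]; trivial
  have h2 := IntermediateField.adjoin_simple_toSubalgebra_of_isAlgebraic (F := F) (α := (cu : K)) hint.isAlgebraic
  rw [← h2]
  exact h1

variable {h : ℕ} {σ : K ≃ₐ[F] K} {c ε : K}

theorem HD.isom (hd : HD h σ c ε) (v : K × K) : hermQ σ (Tm F c ε v) = hermQ σ v := by
  obtain ⟨δ, hδ⟩ := hd.eps
  exact Tm_isom hd.invol hd.unit hδ v

/-- exponents giving the semisimple and the unipotent part -/
theorem HD.parts (hd : HD h σ c ε) : ∃ (a b : ℕ), Tm F c ε ^ a = Tm F c 0 ∧ Tm F c ε ^ b = Tm F 1 ε := by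
  obtain ⟨p, _⟩ := CharP.exists K
  have hp : p.Prime := (CharP.char_is_prime_or_zero K p).resolve_right (CharP.char_ne_zero_of_finite K p)
  have hpF : CharP F p := (RingHom.charP_iff (algebraMap F K) (algebraMap F K).injective p).2 inferInstance
  have hcop : (orderOf c).Coprime p := by
    rw [hd.ord, Nat.coprime_comm, Nat.Prime.coprime_iff_not_dvd hp]
    intro h1
    have h2 : p ∣ Nat.card F := by
      have := Fintype.ofFinite F
      rw [← CharP.cast_eq_zero_iff F p, Nat.card_eq_fintype_card]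
      exact Nat.cast_card_eq_zero F
    have h3 : p ∣ Nat.card F ^ h := dvd_pow h2 (by have := hd.pos; omega)
    have h4 := (Nat.dvd_add_right h3).1 h1
    exact hp.one_lt.ne' (Nat.dvd_one.1 h4)
  obtain ⟨a, ha1, ha2⟩ := Nat.chineseRemainder hcop 1 0
  obtain ⟨b, hb1, hb2⟩ := Nat.chineseRemainder hcop 0 1
  refine ⟨a, b, ?_, ?_⟩
  · have h1 : c ^ a = c := by
      have := pow_eq_pow_of_modEq ha1 (pow_orderOf_eq_one c)
      rwa [pow_one] at this
    have h2 : (a : K) = 0 := by
      rw [CharP.cast_eq_zero_iff K p]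
      exact (Nat.modEq_zero_iff_dvd).1 ha2
    rw [Tm_pow, h1, h2, zero_mul]
  · have h1 : c ^ b = 1 := by
      obtain ⟨k, rfl⟩ := (Nat.modEq_zero_iff_dvd).1 hb1
      rw [pow_mul, pow_orderOf_eq_one, one_pow]
    have h2 : (b : K) = 1 := by
      have h3 := (CharP.cast_eq_iff_mod_eq K p (a := b) (b := 1)).2 hb2
      rwa [Nat.cast_one] at h3
    rw [Tm_pow, h1, h2, one_mul]

/-- closure under scalars -/
theorem HD.scalar (hd : HD h σ c ε) {W : Submodule F (K × K)} (hW : ∀ w ∈ W, Tm F c 0 w ∈ W) (k : K) :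
    ∀ w ∈ W, (k * w.1, k * w.2) ∈ W := by
  have hc : ∀ w ∈ W, (c * w.1, c * w.2) ∈ W := by
    intro w hw
    have h1 := hW w hw
    rwa [Tm_apply, zero_mul, add_zero] at h1
  refine Algebra.adjoin_induction (R := F) (s := {c}) (p := fun k _ => ∀ w ∈ W, (k * w.1, k * w.2) ∈ W) ?_ ?_ ?_ ?_
    (hd.gen k)
  · intro x hx w hw
    rw [Set.mem_singleton_iff] at hx
    subst hx
    exact hc w hw
  · intro r w hw
    have h1 := W.smul_mem r hw
    have h2 : ((algebraMap F K) r * w.1, (algebraMap F K) r * w.2) = r • w := by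
      rw [← Algebra.smul_def, ← Algebra.smul_def]
      rfl
    rw [h2]
    exact h1
  · intro x y _ _ hx hy w hw
    have h1 := W.add_mem (hx w hw) (hy w hw)
    rw [add_mul, add_mul]
    exact h1
  · intro x y _ _ hx hy w hw
    have h1 := hx _ (hy w hw)
    rw [mul_assoc, mul_assoc]
    exact h1

/-- **the invariant subspaces** -/
theorem HD.invs (hd : HD h σ c ε) {W : Submodule F (K × K)} (hW : ∀ w ∈ W, Tm F c ε w ∈ W) :
    W = ⊥ ∨ W = (⊤ : Submodule F K).prod ⊥ ∨ W = ⊤ := by
  obtain ⟨a, b, ha, hb⟩ := hd.parts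
  have hpow : ∀ n : ℕ, ∀ w ∈ W, (Tm F c ε ^ n) w ∈ W := by
    intro n
    induction n with
    | zero => exact fun w hw => hw
    | succ n ih => intro w hw; rw [pow_succ, Module.End.mul_apply]; exact ih _ (hW w hw)
  have hWc : ∀ w ∈ W, Tm F c 0 w ∈ W := by
    intro w hw
    rw [← ha]
    exact hpow a w hw
  have hWu : ∀ w ∈ W, (w.1 + ε * w.2, w.2) ∈ W := by
    intro w hw
    have h1 := hpow b w hw
    rwa [hb, Tm_apply, one_mul, one_mul] at h1
  have hsc := hd.scalar hWc
  by_cases h1 : ∀ w ∈ W, w.2 = 0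
  · by_cases h2 : ∀ w ∈ W, w.1 = 0
    · left
      rw [Submodule.eq_bot_iff]
      exact fun w hw => Prod.ext (h2 w hw) (h1 w hw)
    · right; left
      push Not at h2
      obtain ⟨w, hw, hw0⟩ := h2
      ext v
      rw [Submodule.mem_prod]
      constructor
      · exact fun hv => ⟨trivial, h1 v hv⟩
      · rintro ⟨-, hv⟩
        have h3 := hsc (v.1 * w.1⁻¹) w hw
        rw [h1 w hw, mul_zero, mul_assoc, inv_mul_cancel₀ hw0, mul_one] at h3
        have h4 : v = (v.1, 0) := Prod.ext rfl ((Submodule.mem_bot F).1 hv)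
        rw [h4]
        exact h3
  · right; right
    push Not at h1
    obtain ⟨w, hw, hw0⟩ := h1
    have h2 : ∀ x : K, (x, (0 : K)) ∈ W := by
      intro x
      have h3 := W.sub_mem (hWu w hw) hw
      have h4 : (w.1 + ε * w.2, w.2) - w = (ε * w.2, 0) := by
        refine Prod.ext ?_ ?_
        · change w.1 + ε * w.2 - w.1 = ε * w.2
          ring
        · change w.2 - w.2 = 0
          ring
      rw [h4] at h3
      have h5 := hsc (x * (ε * w.2)⁻¹) _ h3
      have h6 : x * (ε * w.2)⁻¹ * (ε * w.2) = x := by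
        rw [mul_assoc, inv_mul_cancel₀ (mul_ne_zero hd.eps0 hw0), mul_one]
      change (x * (ε * w.2)⁻¹ * (ε * w.2), x * (ε * w.2)⁻¹ * 0) ∈ W at h5
      rwa [h6, mul_zero] at h5
    rw [eq_top_iff]
    intro v _
    have h3 := hsc (v.2 * w.2⁻¹) w hw
    have h4 : v.2 * w.2⁻¹ * w.2 = v.2 := by rw [mul_assoc, inv_mul_cancel₀ hw0, mul_one]
    rw [h4] at h3
    have h5 := W.add_mem h3 (h2 (v.1 - v.2 * w.2⁻¹ * w.1))
    have h6 : (v.2 * w.2⁻¹ * w.1, v.2) + (v.1 - v.2 * w.2⁻¹ * w.1, (0 : K)) = v := by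
      refine Prod.ext ?_ ?_
      · change v.2 * w.2⁻¹ * w.1 + (v.1 - v.2 * w.2⁻¹ * w.1) = v.1
        ring
      · change v.2 + 0 = v.2
        ring
    rwa [h6] at h5

/-- the semisimple part is a commutator of isometries -/
theorem HD.comm (hd : HD h σ c ε) : ∃ A B A' B' : Module.End F (K × K), (∀ v, hermQ σ (A v) = hermQ σ v) ∧
    (∀ v, hermQ σ (B v) = hermQ σ v) ∧ A * A' = 1 ∧ B * B' = 1 ∧ A * B * A' * B' = Tm F c 0 := by
  obtain ⟨β, hβ, hcβ⟩ := hd.beta
  have hσβ : σ β ≠ 0 := (map_ne_zero σ).2 hβ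
  let A : Module.End F (K × K) := (Algebra.lmul F K β).prodMap (Algebra.lmul F K (σ β)⁻¹)
  let A' : Module.End F (K × K) := (Algebra.lmul F K β⁻¹).prodMap (Algebra.lmul F K (σ β))
  let B : Module.End F (K × K) := σ.toLinearMap.prodMap σ.toLinearMap
  have hA : ∀ v, A v = (β * v.1, (σ β)⁻¹ * v.2) := fun v => rfl
  have hA' : ∀ v, A' v = (β⁻¹ * v.1, σ β * v.2) := fun v => rfl
  have hB : ∀ v, B v = (σ v.1, σ v.2) := fun v => rfl
  refine ⟨A, B, A', B, ?_, ?_, ?_, ?_, ?_⟩
  · intro v
    rw [hermQ_apply, hermQ_apply, hA]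
    congr 1
    change β * v.1 * σ ((σ β)⁻¹ * v.2) = v.1 * σ v.2
    rw [map_mul, map_inv₀, hd.invol]
    field_simp
  · intro v
    rw [hermQ_apply, hermQ_apply, hB]
    change Algebra.trace F K (σ v.1 * σ (σ v.2)) = _
    rw [← map_mul]
    exact Algebra.trace_eq_of_algEquiv σ _
  · apply LinearMap.ext
    intro v
    rw [Module.End.mul_apply, hA, hA']
    refine Prod.ext ?_ ?_
    · change β * (β⁻¹ * v.1) = v.1
      rw [← mul_assoc, mul_inv_cancel₀ hβ, one_mul]
    · change (σ β)⁻¹ * (σ β * v.2) = v.2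
      rw [← mul_assoc, inv_mul_cancel₀ hσβ, one_mul]
  · apply LinearMap.ext
    intro v
    rw [Module.End.mul_apply, hB, hB]
    exact Prod.ext (hd.invol _) (hd.invol _)
  · apply LinearMap.ext
    intro v
    rw [Module.End.mul_apply, Module.End.mul_apply, Module.End.mul_apply, hB, hA', hB, hA, Tm_apply]
    refine Prod.ext ?_ ?_
    · change β * σ (β⁻¹ * σ v.1) = c * (v.1 + 0 * v.2)
      rw [map_mul, map_inv₀, hd.invol, hcβ]
      ring
    · change (σ β)⁻¹ * σ (σ β * σ v.2) = c * v.2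
      rw [map_mul, hd.invol, hd.invol, hcβ]
      ring

end

end Cfsg.Agent.H688.Spr
end

-- part: H688/Spr/Frame
section
prune_inst 0x300000000000000000000000000000000
set_option linter.all false
open scoped Cfsg.Agent.FastGrp

/-!
# S3938, orthogonal groups: the frame (helper688)

`spr_gl` : `Spr (POmega F Q)` from two subgroups of `GL`.
-/

set_option autoImplicit false
set_option linter.unusedSectionVars false

namespace Cfsg.Agent.H688.Spr

open Cfsg Cfsg.Geo Module
open Cfsg.Agent.H278.Cov Cfsg.Agent.H383.Cov Cfsg.Agent.H688.Cov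
open Cfsg.Agent.H424.Spr (Spr spr_of_two_up)
open Cfsg.Agent.LieClassical.OrthCore (Nondeg)
open scoped MatrixGroups Matrix

universe u

variable {ι : Type} [Fintype ι] [DecidableEq ι] {F : Type u} [Field F] [Finite F] {Q : QuadraticForm F (ι → F)}

theorem exists_sing (h5 : 5 ≤ Fintype.card ι) : ∃ u : ι → F, u ≠ 0 ∧ Q u = 0 := by
  obtain ⟨w, -, h1, h2⟩ := Cfsg.Agent.LieClassical.OrthFinite.exists_sing_mem (Q := Q) (⊤ : Submodule F (ι → F)) (by
    rw [finrank_top, Module.finrank_fintype_fun_eq_card]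
    omega)
  exact ⟨w, h1, h2⟩

theorem center_le (hQ : Nondeg Q) (h5 : 5 ≤ Fintype.card ι) {M : Subgroup (GL ι F)} (hn : (-1 : GL ι F) ∈ M) :
    (QuotientGroup.mk' (Subgroup.center (Omega F ⇑Q))).ker ≤ M.comap (inc ⇑Q) := by
  intro z hz
  rw [QuotientGroup.ker_mk', Cfsg.Agent.LieClassical.OrthCenter.mem_center_omega_iff
    (Cfsg.Agent.H377.nondegenerate_of_nondeg hQ) (by omega) (exists_sing h5)] at hz
  rw [Subgroup.mem_comap]
  rcases hz with h | h
  · have h1 : inc ⇑Q z = 1 := Units.ext h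
    rw [h1]
    exact M.one_mem
  · have h1 : inc ⇑Q z = -1 := Units.ext h
    rw [h1]
    exact hn

/-- **`Spr` from two subgroups of `GL`** -/
theorem spr_gl (hQ : Nondeg Q) (h5 : 5 ≤ Fintype.card ι) [IsSimpleGroup (POmega F ⇑Q)]
    (hna : ∃ x y : POmega F ⇑Q, x * y ≠ y * x) {s : GL ι F} (hs : s ∈ omegaGL ⇑Q) {M₁ M₂ : Subgroup (GL ι F)}
    (n1 : (-1 : GL ι F) ∈ M₁) (n2 : (-1 : GL ι F) ∈ M₂) (h1 : ¬ omegaGL ⇑Q ≤ M₁) (h2 : ¬ omegaGL ⇑Q ≤ M₂)
    (hnc : ∀ y ∈ omegaGL ⇑Q, (∀ g ∈ omegaGL ⇑Q, g ∈ M₂ ↔ y⁻¹ * g * y ∈ M₁) → ∀ g ∈ omegaGL ⇑Q, g ∈ M₁ ↔ g ∈ M₂)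
    (h : ∀ K : Subgroup (GL ι F), K ≤ omegaGL ⇑Q → K ≠ omegaGL ⇑Q → s ∈ K → K ≤ M₁ ∨ K ≤ M₂) :
    Spr (POmega F ⇑Q) := by
  obtain ⟨s', rfl⟩ := mem_omegaGL.1 hs
  have hne : ∀ M : Subgroup (GL ι F), ¬ omegaGL ⇑Q ≤ M → M.comap (inc ⇑Q) ≠ ⊤ := by
    intro M hM htop
    apply hM
    intro g hg
    obtain ⟨g', rfl⟩ := mem_omegaGL.1 hg
    have : g' ∈ M.comap (inc ⇑Q) := by rw [htop]; trivial
    exact this
  refine spr_of_two_up hna (QuotientGroup.mk' (Subgroup.center (Omega F ⇑Q))) (QuotientGroup.mk'_surjective _) (s := s')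
    (M₁ := M₁.comap (inc ⇑Q)) (M₂ := M₂.comap (inc ⇑Q)) (center_le hQ h5 n1) (center_le hQ h5 n2) (hne _ h1)
    (hne _ h2) ?_ ?_
  · intro y hy
    have h3 := hnc (inc ⇑Q y) (mem_omegaGL.2 ⟨y, rfl⟩) (by
      intro g hg
      obtain ⟨g', rfl⟩ := mem_omegaGL.1 hg
      have h4 : g' ∈ M₂.comap (inc ⇑Q) ↔ g' ∈ (M₁.comap (inc ⇑Q)).map (MulAut.conj y).toMonoidHom := by rw [hy]
      rw [Subgroup.mem_comap] at h4
      rw [h4, ← map_inv, ← map_mul, ← map_mul]
      constructor
      · rintro ⟨k, hk, hkg⟩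
        have h5 : y⁻¹ * g' * y = k := by
          rw [← hkg]
          change y⁻¹ * (y * k * y⁻¹) * y = k
          group
        rw [h5]
        exact hk
      · intro hk
        refine ⟨y⁻¹ * g' * y, hk, ?_⟩
        change y * (y⁻¹ * g' * y) * y⁻¹ = g'
        group)
    ext g
    exact h3 _ (mem_omegaGL.2 ⟨g, rfl⟩)
  · intro K _ hsK hK
    have h3 := h (K.map (inc ⇑Q)) (by
      rw [← range_inc]
      exact Subgroup.map_le_range _ _) (by
      intro he
      apply hK
      rw [← range_inc, MonoidHom.range_eq_map] at he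
      exact Subgroup.map_injective inc_injective he) (Subgroup.mem_map_of_mem _ hsK)
    exact h3.imp (fun h => Subgroup.map_le_iff_le_comap.1 h) fun h => Subgroup.map_le_iff_le_comap.1 h

/-- the stabiliser of a proper nonzero subspace does not contain `Ω` -/
theorem not_le_stab (hQ : Nondeg Q) (h5 : 5 ≤ Fintype.card ι) {W : Submodule F (ι → F)} (h0 : W ≠ ⊥) (h1 : W ≠ ⊤) :
    ¬ omegaGL ⇑Q ≤ subspaceStabilizer W := by
  intro h
  rcases Cfsg.Agent.H925.omegaGL_irreducible (isND hQ) h5 W (fun g hg w hw => (h hg w).1 hw) with h2 | h2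
  · exact h0 h2
  · exact h1 h2

theorem neg_one_mem_stab (W : Submodule F (ι → F)) : (-1 : GL ι F) ∈ subspaceStabilizer W := by
  intro v
  change v ∈ W ↔ (((-1 : GL ι F) : Matrix ι ι F)) *ᵥ v ∈ W
  rw [Units.val_neg, Units.val_one, Matrix.neg_mulVec, Matrix.one_mulVec, Submodule.neg_mem_iff]

theorem mem_stab {W : Submodule F (ι → F)} {g : GL ι F} :
    g ∈ subspaceStabilizer W ↔ ∀ w ∈ W, (g : Matrix ι ι F) *ᵥ w ∈ W := by
  constructor
  · exact fun h w hw => (h w).1 hw
  · intro h
    have hmap : W.map (eqv g : (ι → F) →ₗ[F] (ι → F)) = W := by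
      apply Submodule.eq_of_le_of_finrank_eq
      · rintro _ ⟨w, hw, rfl⟩
        exact h w hw
      · exact LinearEquiv.finrank_map_eq (eqv g) W
    intro v
    constructor
    · exact fun hv => h v hv
    · intro hv
      have hv' : (g : Matrix ι ι F) *ᵥ v ∈ W := hv
      rw [← hmap] at hv'
      obtain ⟨w, hw, hwv⟩ := hv'
      have : w = v := (eqv g).injective hwv
      exact this ▸ hw

end Cfsg.Agent.H688.Spr
end

-- part: H688/Spr/EltT
section
prune_inst 0x4000000226202000000858203201c52c600049000680400cc820a400f816d4260800160b7002001c0c090453038002002100100420000000a203400011900a08080420032400104240019800000000000000000300000000000000000000000000000000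
set_option linter.all false
open scoped Cfsg.Agent.FastGrp

/-!
# S3938, orthogonal groups of minus type: the element `neg j + Tm` (helper688)
-/

set_option autoImplicit false
set_option linter.unusedSectionVars false

namespace Cfsg.Agent.H688.Spr

open Cfsg Cfsg.Geo Module
open Cfsg.Agent.H278.Cov Cfsg.Agent.H383.Cov Cfsg.Agent.H688.Cov
open Cfsg.Agent.LieClassical.OrthCore (Nondeg)
open Cfsg.Agent.H377 (HasSign sumQ sumQ_apply sumQ_nondeg elt_tor_minus prodMap_pow' orderOf_prodMap
  nondegenerate_of_nondeg)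
open Cfsg.Agent.ClassicalGeometry.OrthDickson Cfsg.Agent.ClassicalGeometry.OrthCharTwo
open Cfsg.Agent.ClassicalGeometry.Reflection
open scoped MatrixGroups Matrix

section mem

variable {ι : Type} [Fintype ι] [DecidableEq ι] {F : Type} [Field F] [Finite F] {Q : QuadraticForm F (ι → F)}

/-- in characteristic two, an isometry without fixed vector in even dimension lies in `Ω` -/
theorem mem_of_two (h2 : (2 : F) = 0) (hQ : Nondeg Q) (h5 : 5 ≤ Fintype.card ι) (hev : Even (Fintype.card ι))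
    {x : GL ι F} (hx : x ∈ isometryGroup F ⇑Q) (hfix : ∀ v, (x : Matrix ι ι F) *ᵥ v = v → v = 0) :
    x ∈ omegaGL ⇑Q := by
  have hQ' := nondegenerate_of_nondeg hQ
  have hne : Nonempty ι := by
    rw [← Fintype.card_pos_iff]
    omega
  have hor : (∃ θ : F, θ ≠ 0 ∧ θ ≠ 1) ∨ Fintype.card ι ≠ 4 := Or.inr (by omega)
  obtain ⟨u, hu⟩ : ∃ u, Q u ≠ 0 := by
    by_contra hcon
    push Not at hcon
    obtain ⟨i⟩ := hne
    have h1 : (Pi.single i (1 : F) : ι → F) = 0 := by
      apply hQ
      intro y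
      rw [QuadraticMap.polar, hcon, hcon, hcon]
      ring
    have h3 := congrFun h1 i
    simp at h3
  set g : isometryGroup F ⇑Q := ⟨x, hx⟩ with hg
  have hds : dsign Q g = 1 := by
    rw [dsign_def]
    have h1 : fixSp g = ⊥ := by
      rw [Submodule.eq_bot_iff]
      intro v hv
      exact hfix v ((mem_fixSp.1 hv :))
    rw [h1, finrank_bot, zero_add]
    exact hev.neg_one_pow
  have hgm : g ∈ commutator (isometryGroup F ⇑Q) := by
    by_contra hgn
    have hun : reflIso Q u hu ∉ commutator (isometryGroup F ⇑Q) := refl_notMem_commutator Q hQ' hor u hu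
    have h1 : g * reflIso Q u hu ∈ commutator (isometryGroup F ⇑Q) :=
      (Subgroup.mul_mem_iff_of_index_two (index_commutator_two Q h2 hQ' hor)).2 (iff_of_false hgn hun)
    have h3 := dsign_eq_one_of_mem_commutator Q hQ' hor _ h1
    have h4 := dsign_mul_of_gen Q hQ' hor g (reflIso Q u hu)
    rw [h3, hds, dsign_refl Q hQ', one_mul] at h4
    exact absurd h4 (by decide)
  exact ⟨g, hgm, rfl⟩

/-- commutators of isometries lie in `Ω` -/
theorem comm_mem {a b : GL ι F} (ha : a ∈ isometryGroup F ⇑Q) (hb : b ∈ isometryGroup F ⇑Q) :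
    a * b * a⁻¹ * b⁻¹ ∈ omegaGL ⇑Q := by
  set A : isometryGroup F ⇑Q := ⟨a, ha⟩ with hA
  set B : isometryGroup F ⇑Q := ⟨b, hb⟩ with hB
  have h1 : A * B * A⁻¹ * B⁻¹ ∈ commutator (isometryGroup F ⇑Q) :=
    Subgroup.commutator_mem_commutator (Subgroup.mem_top A) (Subgroup.mem_top B)
  have h2 := Subgroup.mem_map_of_mem (isometryGroup F ⇑Q).subtype h1
  rw [map_mul, map_mul, map_mul, map_inv, map_inv] at h2
  exact h2

end mem

section

variable {ι : Type} [Fintype ι] [DecidableEq ι] {F : Type} [Field F] [Finite F]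
  {V : Type} [AddCommGroup V] [Module F V] {e : (ι → F) ≃ₗ[F] V}

theorem IsM.unique {x y : GL ι F} {T : Module.End F V} (hx : IsM e x T) (hy : IsM e y T) : x = y := by
  apply Units.ext
  apply Matrix.toLin'.injective
  rw [hx, hy]

theorem IsM.inv {x : GL ι F} {T T' : Module.End F V} (hx : IsM e x T) (hT : T * T' = 1) : IsM e x⁻¹ T' := by
  apply isM_of_apply
  intro v
  have h1 : (x : Matrix ι ι F) *ᵥ (e.symm (T' (e v))) = v := by
    rw [hx.apply, e.apply_symm_apply, ← Module.End.mul_apply, hT, Module.End.one_apply, e.symm_apply_apply]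
  have h2 : ((x⁻¹ : GL ι F) : Matrix ι ι F) *ᵥ ((x : Matrix ι ι F) *ᵥ (e.symm (T' (e v)))) = e.symm (T' (e v)) := by
    rw [Matrix.mulVec_mulVec, ← Units.val_mul, inv_mul_cancel, Units.val_one, Matrix.one_mulVec]
  rwa [h1] at h2

end

section elt

variable {ι : Type} [Fintype ι] [DecidableEq ι] {F : Type} [Field F] [Finite F] {Q : QuadraticForm F (ι → F)}
  {K : Type} [Field K] [Finite K] [Algebra F K] {σ : K ≃ₐ[F] K} {c ε : K}

/-- the data of the element `neg j + Tm` -/
structure TD (Q : QuadraticForm F (ι → F)) (h j : ℕ) (σ : K ≃ₐ[F] K) (c ε : K) (x : GL ι F)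
    (Q₁ : QuadraticForm F (Fin (2 * j) → F)) (S : Module.End F (Fin (2 * j) → F))
    (e : (ι → F) ≃ₗ[F] ((Fin (2 * j) → F) × (K × K))) (N s s' : ℕ) : Prop where
  hd : HD h σ c ε
  mem : x ∈ omegaGL ⇑Q
  isM : IsM e x (S.prodMap (Tm F c ε))
  form : ∀ u, sumQ Q₁ (hermQ σ) (e u) = Q u
  num : Num (Nat.card F) (Fintype.card ι) (2 * j) N
  pow : S ^ N = 1
  ker : LinearMap.ker (S - 1) = ⊥
  s1 : S ^ s = S
  t1 : Tm F c ε ^ s = 1
  s2 : S ^ s' = 1
  t2 : Tm F c ε ^ s' = Tm F c ε
  blk : Blk (2 * j) (x ^ s)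
  ord : orderOf (x ^ s) = N
  dvd : N ∣ Nat.card F ^ j + 1

theorem exists_TD (hQ : Nondeg Q) {m j h N : ℕ} (hcard : Fintype.card ι = 2 * m) (hjh : j + 2 * h = m)
    (hnum : Num (Nat.card F) (Fintype.card ι) (2 * j) N) (hd : HD h σ c ε) (hmod : _root_.Cfsg.Agent.H688.Cov.Mod Q m (-1)) :
    ∃ x Q₁ S e s s', TD Q h j σ c ε x Q₁ S e N s s' := by
  have hfd : FiniteDimensional F K := Module.Finite.of_finite
  have hq : 2 ≤ Nat.card F := Finite.one_lt_card
  obtain ⟨h1, hodd, hcq, hN1, hj⟩ := num_facts hq hnum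
  have hh := hd.pos
  have hlt := hnum.lt
  have h10 := hnum.ten
  obtain ⟨-, Q₁, S, nd₁, sg₁, is₁, os₁⟩ := elt_tor_minus (F := F) hj h1
  have hSN : S ^ N = 1 := by rw [← os₁]; exact pow_orderOf_eq_one S
  have hdim₁ : finrank F (Fin (2 * j) → F) = 2 * j := Module.finrank_fin_fun F
  have hdimK : finrank F (K × K) = 2 * (2 * h) := by rw [Module.finrank_prod, hd.dim]; ring
  have hsgn : HasSign (⇑(hermQ σ)) (2 * h) 1 := by
    have := hermQ_sign (F := F) σ
    rwa [hd.dim] at this
  obtain ⟨e, he⟩ := hmod ((Fin (2 * j) → F) × (K × K)) (sumQ Q₁ (hermQ σ)) (by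
    rw [Module.finrank_prod, hdim₁, hdimK, ← hjh]
    ring) (sumQ_nondeg nd₁ (hermQ_nondeg σ)) (by
      have := sg₁.prod hsgn
      rwa [hjh, mul_one] at this)
  have hker : LinearMap.ker (S - 1) = ⊥ := by
    refine ker_sub_one hSN hcq hnum.prim hdim₁ ?_
    rintro rfl
    rw [orderOf_one] at os₁
    omega
  -- the exponent of `Tm`
  obtain ⟨p, _⟩ := CharP.exists K
  have hp : p.Prime := (CharP.char_is_prime_or_zero K p).resolve_right (CharP.char_ne_zero_of_finite K p)
  have hpF : CharP F p := (RingHom.charP_iff (algebraMap F K) (algebraMap F K).injective p).2 inferInstance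
  have hpq : p ∣ Nat.card F := by
    have := Fintype.ofFinite F
    rw [← CharP.cast_eq_zero_iff F p, Nat.card_eq_fintype_card]
    exact Nat.cast_card_eq_zero F
  have hTM : Tm F c ε ^ ((Nat.card F ^ h + 1) * p) = 1 := by
    have hc1 : c ^ (Nat.card F ^ h + 1) = 1 := by
      rw [← hd.ord]
      exact pow_orderOf_eq_one c
    rw [Tm_pow, pow_mul, hc1, one_pow, Nat.cast_mul, CharP.cast_eq_zero K p, mul_zero, zero_mul, Tm_one]
  have hNM : N.Coprime ((Nat.card F ^ h + 1) * p) := by
    refine Nat.Coprime.mul_right ?_ (Nat.Coprime.coprime_dvd_right hpq hcq)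
    refine num_coprime hnum (c := 2 * h) ?_ (by omega) (by omega)
    have h3 := Nat.sq_sub_sq (Nat.card F ^ h) 1
    rw [one_pow, ← pow_mul, mul_comm h 2] at h3
    rw [h3]
    exact Dvd.intro _ rfl
  have hisT : ∀ v, sumQ Q₁ (hermQ σ) ((S.prodMap (Tm F c ε)) v) = sumQ Q₁ (hermQ σ) v := sumQ_isom is₁ hd.isom
  obtain ⟨x, hxI, hx⟩ := exists_gl hQ he hisT
  have hc1 : c ≠ 1 := by
    intro h0
    have := hd.ord
    rw [h0, orderOf_one] at this
    have h4 : 0 < Nat.card F ^ h := Nat.pow_pos (by omega)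
    omega
  have hmem : x ∈ omegaGL ⇑Q := by
    by_cases h2 : (2 : F) = 0
    · refine mem_of_two h2 hQ (by omega) ⟨m, by omega⟩ hxI ?_
      intro v hv
      rw [hx.apply] at hv
      have hv' : (S.prodMap (Tm F c ε)) (e v) = e v := by
        rw [← e.apply_symm_apply ((S.prodMap (Tm F c ε)) (e v)), hv]
      have a1 : (e v).1 = 0 := fix_eq_zero hker (congrArg Prod.fst hv')
      have a2 : Tm F c ε (e v).2 = (e v).2 := congrArg Prod.snd hv'
      rw [Tm_apply] at a2
      have a3 : c * (e v).2.2 = (e v).2.2 := congrArg Prod.snd a2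
      have a4 : (e v).2.2 = 0 := by
        have : (c - 1) * (e v).2.2 = 0 := by linear_combination a3
        exact (mul_eq_zero.1 this).resolve_left (sub_ne_zero.2 hc1)
      have a5 : c * ((e v).2.1 + ε * (e v).2.2) = (e v).2.1 := congrArg Prod.fst a2
      rw [a4, mul_zero, add_zero] at a5
      have a6 : (e v).2.1 = 0 := by
        have : (c - 1) * (e v).2.1 = 0 := by linear_combination a5
        exact (mul_eq_zero.1 this).resolve_left (sub_ne_zero.2 hc1)
      rw [← LinearEquiv.map_eq_zero_iff e]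
      exact Prod.ext a1 (Prod.ext a6 a4)
    · -- odd characteristic
      have hpodd : Odd p := by
        refine hp.odd_of_ne_two ?_
        rintro rfl
        apply h2
        have := CharP.cast_eq_zero F 2
        exact_mod_cast this
      have hu : ∀ v, hermQ σ (Tm F 1 ε v) = hermQ σ v := by
        obtain ⟨δ, hδ⟩ := hd.eps
        exact Tm_isom hd.invol (by rw [map_one, one_mul]) hδ
      have hup : Tm F (1 : K) ε ^ p = 1 := by
        rw [Tm_pow, one_pow, CharP.cast_eq_zero, zero_mul, Tm_one]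
      obtain ⟨x₁, hx₁, hM₁⟩ := exists_odd hQ (by omega) he (sumQ_isom is₁ hu) (by
        rw [orderOf_prodMap, os₁]
        refine Odd.of_dvd_nat (hodd.mul hpodd) ?_
        exact (Nat.lcm_dvd_mul _ _).trans (Nat.mul_dvd_mul_left _ (orderOf_dvd_of_pow_eq_one hup)))
      obtain ⟨A, B, A', B', hA, hB, hAA, hBB, hcomm⟩ := hd.comm
      obtain ⟨a, haI, ha⟩ := exists_gl hQ he (T := (1 : Module.End F (Fin (2 * j) → F)).prodMap A)
        (sumQ_isom (fun _ => rfl) hA)
      obtain ⟨b, hbI, hb⟩ := exists_gl hQ he (T := (1 : Module.End F (Fin (2 * j) → F)).prodMap B)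
        (sumQ_isom (fun _ => rfl) hB)
      have hpm : ∀ (R R' : Module.End F (K × K)) (U U' : Module.End F (Fin (2 * j) → F)),
          (U.prodMap R * U'.prodMap R' : Module.End F ((Fin (2 * j) → F) × (K × K))) =
            (U * U').prodMap (R * R') := fun _ _ _ _ => rfl
      have ha' := IsM.inv ha (T' := (1 : Module.End F (Fin (2 * j) → F)).prodMap A') (by
        rw [hpm, hAA, one_mul]; rfl)
      have hb' := IsM.inv hb (T' := (1 : Module.End F (Fin (2 * j) → F)).prodMap B') (by
        rw [hpm, hBB, one_mul]; rfl)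
      have hab := ((ha.mul hb).mul ha').mul hb'
      rw [hpm, hpm, hpm, hcomm, one_mul, one_mul, one_mul] at hab
      have hprod := hM₁.mul hab
      rw [hpm, mul_one, Tm_mul, one_mul, add_zero] at hprod
      rw [IsM.unique hx hprod]
      exact Subgroup.mul_mem _ hx₁ (comm_mem haI hbI)
  obtain ⟨s, hs, ht⟩ := exists_sep hSN hTM hNM
  obtain ⟨s', hs', ht'⟩ := exists_sep hTM hSN hNM.symm
  have hxs : IsM e (x ^ s) (S.prodMap (1 : Module.End F (K × K))) := by
    have := hx.pow s
    rwa [prodMap_pow', hs, ht] at this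
  have hos : orderOf (x ^ s) = N := by
    rw [hxs.orderOf, orderOf_prodMap, os₁, orderOf_one, Nat.lcm_one_right]
  refine ⟨x, Q₁, S, e, s, s', hd, hmem, hx, he, hnum, hSN, hker, hs, ht, ht', hs', ⟨?_, ?_, ?_⟩, hos, h1⟩
  · rwa [hos]
  · rw [hos]; exact hnum.prim
  · rw [hxs.finrank_range, finrank_range_prod_one, finrank_range_of_ker hker, hdim₁]

end elt

end Cfsg.Agent.H688.Spr
end

-- part: H688/Spr/ParT
section
prune_inst 0x40540000033620200000005023020001000000000004004002c8002020b014040a0c2000007000001400018811800002002100000420000000a2034000003002080800000a048010024001f000004000000000000300000000000000000000000000000000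
set_option linter.all false
open scoped Cfsg.Agent.FastGrp

/-!
# S3938, orthogonal groups of minus type: no field of degree two for the element `neg j + Tm` (helper688)
-/

set_option autoImplicit false
set_option linter.unusedSectionVars false

namespace Cfsg.Agent.H688.Spr

open Cfsg Cfsg.Geo Module
open Cfsg.Agent.H278.Cov Cfsg.Agent.H383.Cov Cfsg.Agent.H688.Cov
open Cfsg.Agent.LieClassical.OrthCore (Nondeg)
open Cfsg.Agent.H377 (HasSign sumQ sumQ_apply sumQ_nondeg elt_tor_minus prodMap_pow' orderOf_prodMap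
  nondegenerate_of_nondeg)
open scoped MatrixGroups Matrix

section shape

variable {F : Type} [Field F] [Finite F] {K : Type} [Field K] [Finite K] [Algebra F K] {h : ℕ} {σ : K ≃ₐ[F] K} {c ε : K}

/-- the endomorphisms commuting with `Tm` -/
theorem HD.shape (hd : HD h σ c ε) {A : Module.End F (K × K)} (hA : A * Tm F c ε = Tm F c ε * A) :
    ∃ α β : K, ∀ v, A v = (α * v.1 + β * v.2, α * v.2) := by
  obtain ⟨a, b, ha, hb⟩ := hd.parts
  have hpow : ∀ n : ℕ, A * Tm F c ε ^ n = Tm F c ε ^ n * A := fun n => (Commute.pow_right (show Commute A _ from hA) n).eq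
  have h1 := hpow a
  have h2 := hpow b
  rw [ha] at h1
  rw [hb] at h2
  have hAc : ∀ v : K × K, A (c * v.1, c * v.2) = (c * (A v).1, c * (A v).2) := by
    intro v
    have h3 := LinearMap.congr_fun h1 v
    rw [Module.End.mul_apply, Module.End.mul_apply, Tm_apply, Tm_apply, zero_mul, add_zero, zero_mul, add_zero] at h3
    exact h3
  have hAk : ∀ (k : K) (v : K × K), A (k * v.1, k * v.2) = (k * (A v).1, k * (A v).2) := by
    intro k
    refine Algebra.adjoin_induction (R := F) (s := {c})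
      (p := fun k _ => ∀ v : K × K, A (k * v.1, k * v.2) = (k * (A v).1, k * (A v).2)) ?_ ?_ ?_ ?_ (hd.gen k)
    · intro x hx v
      rw [Set.mem_singleton_iff] at hx
      subst hx
      exact hAc v
    · intro r v
      have h3 := map_smul A r v
      have h4 : ∀ w : K × K, ((algebraMap F K) r * w.1, (algebraMap F K) r * w.2) = r • w := by
        intro w
        rw [← Algebra.smul_def, ← Algebra.smul_def]
        rfl
      rw [h4, h4]
      exact h3
    · intro x y _ _ hx hy v
      have h3 := map_add A (x * v.1, x * v.2) (y * v.1, y * v.2)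
      rw [hx, hy] at h3
      rw [add_mul, add_mul, add_mul, add_mul]
      exact h3
    · intro x y _ _ hx hy v
      have h3 := hx (y * v.1, y * v.2)
      rw [hy] at h3
      rw [mul_assoc, mul_assoc, mul_assoc, mul_assoc]
      exact h3
  set w := A (0, 1) with hw
  have h3 : A (ε, 1) = (w.1 + ε * w.2, w.2) := by
    have h4 := LinearMap.congr_fun h2 (0, 1)
    rw [Module.End.mul_apply, Module.End.mul_apply, Tm_apply, Tm_apply, one_mul, one_mul, one_mul, one_mul, mul_one,
      zero_add] at h4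
    exact h4
  have h4 : A (1, 0) = (w.2, 0) := by
    have h5 := hAk ε (1, 0)
    rw [mul_one, mul_zero] at h5
    have h6 := map_sub A (ε, 1) (0, 1)
    have h7 : ((ε, 1) : K × K) - (0, 1) = (ε, 0) := Prod.ext (sub_zero _) (sub_self _)
    rw [h7, h3, ← hw, h5] at h6
    have h8 : ε * (A (1, 0)).1 = w.1 + ε * w.2 - w.1 := congrArg Prod.fst h6
    have h9 : ε * (A (1, 0)).2 = w.2 - w.2 := congrArg Prod.snd h6
    refine Prod.ext ?_ ?_
    · apply mul_left_cancel₀ hd.eps0
      rw [h8]
      change _ = ε * w.2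
      ring
    · apply mul_left_cancel₀ hd.eps0
      rw [h9, sub_self]
      change _ = ε * 0
      rw [mul_zero]
  refine ⟨w.2, w.1, fun v => ?_⟩
  have h5 : v = (v.1 * 1, v.1 * 0) + (v.2 * 0, v.2 * 1) := by
    refine Prod.ext ?_ ?_
    · change v.1 = v.1 * 1 + v.2 * 0
      ring
    · change v.2 = v.1 * 0 + v.2 * 1
      ring
  have h6 := hAk v.1 (1, 0)
  have h7 := hAk v.2 (0, 1)
  rw [h4] at h6
  rw [← hw] at h7
  nth_rewrite 1 [h5]
  rw [map_add, h6, h7]
  refine Prod.ext ?_ ?_
  · change v.1 * w.2 + v.2 * w.1 = w.2 * v.1 + w.1 * v.2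
    ring
  · change v.1 * 0 + v.2 * w.2 = w.2 * v.2
    ring

/-- powers -/
theorem shape_pow {A : Module.End F (K × K)} {α β : K} (hA : ∀ v, A v = (α * v.1 + β * v.2, α * v.2)) (n : ℕ) :
    ∃ γ : K, ∀ v, (A ^ n) v = (α ^ n * v.1 + γ * v.2, α ^ n * v.2) := by
  induction n with
  | zero =>
    refine ⟨0, fun v => ?_⟩
    rw [pow_zero, pow_zero, Module.End.one_apply, one_mul, one_mul, zero_mul, add_zero]
  | succ n ih =>
    obtain ⟨γ, hγ⟩ := ih
    refine ⟨α ^ n * β + γ * α, fun v => ?_⟩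
    rw [pow_succ, Module.End.mul_apply, hγ, hA]
    refine Prod.ext ?_ ?_
    · change α ^ n * (α * v.1 + β * v.2) + γ * (α * v.2) = α ^ (n + 1) * v.1 + (α ^ n * β + γ * α) * v.2
      ring
    · change α ^ n * (α * v.2) = α ^ (n + 1) * v.2
      ring

end shape

section nofix

variable {ι : Type} [Fintype ι] [DecidableEq ι] {F : Type} [Field F] [Finite F]

open Cfsg.Agent.H907 (isField_of card_K) in
theorem no_fix [Nonempty ι] {E : Subalgebra F (Matrix ι ι F)} (hE : IsFieldSubalgebra 2 E)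
    (key : ∀ e ∈ E, e ^ Nat.card F = e) : False := by
  have := Fintype.ofFinite F
  let _ : Field E := (isField_of hE).toField
  have hfin : Finite E := inferInstance
  have := Fintype.ofFinite E
  have h1 : Fintype.card E = Fintype.card F ^ 2 := by
    rw [← Nat.card_eq_fintype_card, card_K hE]
  classical
  have hq : 1 < Fintype.card F := Fintype.one_lt_card
  have h2 : (Finset.univ : Finset E).card ≤ (Polynomial.X ^ Fintype.card F - Polynomial.X : Polynomial E).natDegree := by
    have hp0 : (Polynomial.X ^ Fintype.card F - Polynomial.X : Polynomial E) ≠ 0 := FiniteField.X_pow_card_sub_X_ne_zero E hq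
    have h3 : (Finset.univ : Finset E) ⊆ (Polynomial.X ^ Fintype.card F - Polynomial.X : Polynomial E).roots.toFinset := by
      intro e _
      rw [Multiset.mem_toFinset, Polynomial.mem_roots hp0, Polynomial.IsRoot.def, Polynomial.eval_sub,
        Polynomial.eval_pow, Polynomial.eval_X, sub_eq_zero]
      apply Subtype.ext
      have := key e e.2
      rwa [Nat.card_eq_fintype_card] at this
    exact (Finset.card_le_card h3).trans ((Multiset.toFinset_card_le _).trans (Polynomial.card_roots' _))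
  rw [Finset.card_univ, h1, FiniteField.X_pow_card_sub_X_natDegree_eq E hq] at h2
  nlinarith

/-- nonzero elements of a field of matrices are injective -/
theorem field_inj {r : ℕ} {E : Subalgebra F (Matrix ι ι F)} (hE : IsFieldSubalgebra r E) {a : Matrix ι ι F}
    (ha : a ∈ E) {v : ι → F} (hv : v ≠ 0) (h : a *ᵥ v = 0) : a = 0 := by
  by_contra ha0
  obtain ⟨b, hb, hab⟩ := hE.inv a ha ha0
  apply hv
  have h1 : b *ᵥ (a *ᵥ v) = 0 := by rw [h, Matrix.mulVec_zero]
  rw [Matrix.mulVec_mulVec, hE.comm b hb a ha, hab, Matrix.one_mulVec] at h1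
  exact h1

end nofix

section par

variable {ι : Type} [Fintype ι] [DecidableEq ι] {F : Type} [Field F] [Finite F] {Q : QuadraticForm F (ι → F)}
  {K : Type} [Field K] [Finite K] [Algebra F K] {σ : K ≃ₐ[F] K} {c ε : K} {h j N s s' : ℕ} {x : GL ι F}
  {Q₁ : QuadraticForm F (Fin (2 * j) → F)} {S : Module.End F (Fin (2 * j) → F)}
  {e : (ι → F) ≃ₗ[F] ((Fin (2 * j) → F) × (K × K))}

theorem TD.isM_s (ht : TD Q h j σ c ε x Q₁ S e N s s') : IsM e (x ^ s) (S.prodMap (1 : Module.End F (K × K))) := by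
  have := ht.isM.pow s
  rwa [prodMap_pow', ht.s1, ht.t1] at this

theorem TD.isM_s' (ht : TD Q h j σ c ε x Q₁ S e N s s') :
    IsM e (x ^ s') ((1 : Module.End F (Fin (2 * j) → F)).prodMap (Tm F c ε)) := by
  have := ht.isM.pow s'
  rwa [prodMap_pow', ht.s2, ht.t2] at this

theorem TD.polar (ht : TD Q h j σ c ε x Q₁ S e N s s') (v w : K × K) :
    QuadraticMap.polar Q (e.symm (0, v)) (e.symm (0, w)) = QuadraticMap.polar (hermQ (F := F) σ) v w := by
  have h0 : ∀ v, Q (e.symm (0, v)) = hermQ σ v := by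
    intro v
    rw [← ht.form, e.apply_symm_apply, sumQ_apply, map_zero, zero_add]
  have h1 : e.symm (0, v) + e.symm (0, w) = e.symm (0, v + w) := by
    rw [← map_add]
    congr 1
    exact Prod.ext (add_zero _) rfl
  rw [QuadraticMap.polar, QuadraticMap.polar, h1, h0, h0, h0]

theorem TD.no_ext [Nonempty ι] (hQ : Nondeg Q) (ht : TD Q h j σ c ε x Q₁ S e N s s') {H : Subgroup (GL ι F)}
    (hH : H ≤ isometryGroup F ⇑Q) (hirr : ¬ Red H) {E : Subalgebra F (Matrix ι ι F)} (hE : IsFieldSubalgebra 2 E)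
    (hN : H ≤ subalgebraNormalizer E) (hx : x ∈ H) (hpar : Odd (j + h)) : False := by
  have hfd : FiniteDimensional F K := Module.Finite.of_finite
  have hq : 2 ≤ Nat.card F := Finite.one_lt_card
  obtain ⟨h1, hodd, hcq, hN1, hj⟩ := num_facts hq ht.num
  have hy := H.pow_mem hx s
  have hu := H.pow_mem hx s'
  have hMy := ht.isM_s
  have hMu := ht.isM_s'
  -- `E` commutes with `x ^ s`
  have hcy : ∀ a ∈ E, ((x ^ s : GL ι F) : Matrix ι ι F) * a = a * ((x ^ s : GL ι F) : Matrix ι ι F) := fun a ha =>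
    comm_of_coprime hE (hN hy) (by rw [ht.ord]; exact Nat.coprime_two_right.2 hodd) ha
  have hcyv : ∀ a ∈ E, ∀ v, ((x ^ s : GL ι F) : Matrix ι ι F) *ᵥ (a *ᵥ v) =
      a *ᵥ (((x ^ s : GL ι F) : Matrix ι ι F) *ᵥ v) := by
    intro a ha v
    rw [Matrix.mulVec_mulVec, Matrix.mulVec_mulVec, hcy a ha]
  -- `E` preserves the second block
  have hE2 : ∀ a ∈ E, ∀ v, (e v).1 = 0 → (e (a *ᵥ v)).1 = 0 := by
    intro a ha v hv
    have h2 : ((x ^ s : GL ι F) : Matrix ι ι F) *ᵥ v = v := by
      rw [hMy.apply]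
      apply e.injective
      rw [e.apply_symm_apply]
      refine Prod.ext ?_ rfl
      change S (e v).1 = (e v).1
      rw [hv, map_zero]
    have h3 := hcyv a ha v
    rw [h2, hMy.apply] at h3
    have h4 := congrArg e h3
    rw [e.apply_symm_apply] at h4
    exact fix_eq_zero ht.ker (congrArg Prod.fst h4)
  -- `E` preserves the first block
  have hsurj : ∀ b : Fin (2 * j) → F, ∃ z, S z - z = b := by
    intro b
    have h2 : Function.Injective (S - 1 : Module.End F (Fin (2 * j) → F)) := LinearMap.ker_eq_bot.1 ht.ker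
    obtain ⟨z, hz⟩ := (LinearMap.injective_iff_surjective.1 h2) b
    exact ⟨z, hz⟩
  have hE1 : ∀ a ∈ E, ∀ v, (e v).2 = 0 → (e (a *ᵥ v)).2 = 0 := by
    intro a ha v hv
    obtain ⟨z, hz⟩ := hsurj (e v).1
    have h2 : v = ((x ^ s : GL ι F) : Matrix ι ι F) *ᵥ (e.symm (z, 0)) - e.symm (z, 0) := by
      rw [hMy.apply, e.apply_symm_apply, ← map_sub]
      apply e.injective
      rw [e.apply_symm_apply]
      refine Prod.ext hz.symm ?_
      rw [hv]
      change (0 : K × K) = 0 - 0
      rw [sub_zero]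
    rw [h2, Matrix.mulVec_sub, ← hcyv a ha, hMy.apply, map_sub, e.apply_symm_apply]
    change (e (a *ᵥ e.symm (z, 0))).2 - (e (a *ᵥ e.symm (z, 0))).2 = 0
    rw [sub_self]
  have hfix1 : ∀ v, (e v).2 = 0 → ((x ^ s' : GL ι F) : Matrix ι ι F) *ᵥ v = v := by
    intro v hv
    rw [hMu.apply]
    apply e.injective
    rw [e.apply_symm_apply]
    refine Prod.ext rfl ?_
    change Tm F c ε (e v).2 = (e v).2
    rw [hv, map_zero]
  -- `E` commutes with `x ^ s'`
  have hcu : ∀ a ∈ E, ((x ^ s' : GL ι F) : Matrix ι ι F) * a = a * ((x ^ s' : GL ι F) : Matrix ι ι F) := by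
    intro a ha
    have ha' := (hN hu a).1 ha
    set a' : Matrix ι ι F := ((x ^ s' : GL ι F) : Matrix ι ι F) * a * (((x ^ s')⁻¹ : GL ι F) : Matrix ι ι F) with ha'def
    have h2 : ((x ^ s' : GL ι F) : Matrix ι ι F) * a = a' * ((x ^ s' : GL ι F) : Matrix ι ι F) := by
      rw [ha'def, mul_assoc, ← Units.val_mul, inv_mul_cancel, Units.val_one, mul_one]
    obtain ⟨b, hb⟩ : ∃ b : Fin (2 * j) → F, b ≠ 0 := by
      refine ⟨fun _ => 1, fun h0 => ?_⟩
      exact one_ne_zero (congrFun h0 ⟨0, by omega⟩)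
    have hv0 : e.symm (b, 0) ≠ 0 := by
      intro h0
      apply hb
      have := (LinearEquiv.map_eq_zero_iff e.symm).1 h0
      exact congrArg Prod.fst this
    have h3 : (a' - a) *ᵥ e.symm (b, 0) = 0 := by
      have hb2 : (e (e.symm (b, (0 : K × K)))).2 = 0 := by rw [e.apply_symm_apply]
      have h4 : ((x ^ s' : GL ι F) : Matrix ι ι F) *ᵥ (a *ᵥ e.symm (b, 0)) =
          a' *ᵥ (((x ^ s' : GL ι F) : Matrix ι ι F) *ᵥ e.symm (b, 0)) := by
        rw [Matrix.mulVec_mulVec, Matrix.mulVec_mulVec, h2]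
      rw [hfix1 _ hb2, hfix1 _ (hE1 a ha _ hb2)] at h4
      rw [Matrix.sub_mulVec, h4, sub_self]
    have h4 := field_inj hE (E.sub_mem ha' ha) hv0 h3
    rw [h2, sub_eq_zero.1 h4]
  apply no_fix hE
  intro a ha
  -- the operator on the second block
  let A : Module.End F (K × K) := (LinearMap.snd F (Fin (2 * j) → F) (K × K)).comp ((e : (ι → F) →ₗ[F] _).comp
    ((Matrix.toLin' a).comp ((e.symm : _ →ₗ[F] (ι → F)).comp (LinearMap.inr F (Fin (2 * j) → F) (K × K)))))
  have hA : ∀ v, a *ᵥ e.symm (0, v) = e.symm (0, A v) := by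
    intro v
    apply e.injective
    rw [e.apply_symm_apply]
    refine Prod.ext ?_ rfl
    exact hE2 a ha _ (by rw [e.apply_symm_apply])
  have hAT : A * Tm F c ε = Tm F c ε * A := by
    apply LinearMap.ext
    intro v
    have h2 : ((x ^ s' : GL ι F) : Matrix ι ι F) *ᵥ (a *ᵥ e.symm (0, v)) =
          a *ᵥ (((x ^ s' : GL ι F) : Matrix ι ι F) *ᵥ e.symm (0, v)) := by
        rw [Matrix.mulVec_mulVec, Matrix.mulVec_mulVec, hcu a ha]
    have h3 : ∀ w, ((x ^ s' : GL ι F) : Matrix ι ι F) *ᵥ e.symm (0, w) = e.symm (0, Tm F c ε w) := by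
      intro w
      rw [hMu.apply, e.apply_symm_apply]
      rfl
    rw [hA, h3, h3, hA] at h2
    exact (congrArg Prod.snd (e.symm.injective h2)).symm
  obtain ⟨α, β, hαβ⟩ := ht.hd.shape hAT
  have hAn : ∀ (n : ℕ) (v : K × K), a ^ n *ᵥ e.symm (0, v) = e.symm (0, (A ^ n) v) := by
    intro n
    induction n with
    | zero => intro v; rw [pow_zero, pow_zero, Matrix.one_mulVec, Module.End.one_apply]
    | succ n ih =>
      intro v
      rw [pow_succ, pow_succ, ← Matrix.mulVec_mulVec, hA, ih, Module.End.mul_apply]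
  -- the adjoint
  have h2 : α = σ (α ^ (Nat.card F ^ j)) := by
    obtain ⟨γ, hγ⟩ := shape_pow hαβ (Nat.card F ^ j)
    have h3 : ∀ t : K, Algebra.trace F K (t * (α - σ (α ^ (Nat.card F ^ j)))) = 0 := by
      intro t
      have h4 := adj_of_mem (isND hQ) hH hirr hE hN hy hj (by rw [ht.ord]; exact hodd) (by rw [ht.ord]; exact h1) ht.blk
        ha (e.symm (0, (t, 0))) (e.symm (0, (0, 1)))
      rw [hA, hAn, ht.polar, ht.polar, hermQ_polar, hermQ_polar, hγ, hαβ] at h4
      change Algebra.trace F K ((α * t + β * 0) * σ 1) + Algebra.trace F K (0 * σ (α * 0)) =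
        Algebra.trace F K (t * σ (α ^ (Nat.card F ^ j) * 1)) +
          Algebra.trace F K ((α ^ (Nat.card F ^ j) * 0 + γ * 1) * σ 0) at h4
      rw [mul_zero β, add_zero, map_one, mul_one, zero_mul, map_zero (Algebra.trace F K), add_zero, mul_one,
        map_zero σ, mul_zero, map_zero (Algebra.trace F K), add_zero] at h4
      rw [mul_sub, map_sub, mul_comm t α, h4, sub_self]
    have h5 : ((0 : K), σ (α - σ (α ^ (Nat.card F ^ j)))) = 0 := by
      apply hermQ_nondeg (F := F) σ
      intro w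
      rw [hermQ_polar]
      change Algebra.trace F K (0 * σ w.2) + Algebra.trace F K (w.1 * σ (σ (α - σ (α ^ (Nat.card F ^ j))))) = 0
      rw [ht.hd.invol, h3, zero_mul, map_zero, add_zero]
    have h6 : σ (α - σ (α ^ (Nat.card F ^ j))) = 0 := congrArg Prod.snd h5
    exact sub_eq_zero.1 ((map_eq_zero σ).1 h6)
  have h3 : α ^ (Nat.card F ^ 2) = α := by
    obtain ⟨γ, hγ⟩ := shape_pow hαβ (Nat.card F ^ 2)
    have h4 := hAn (Nat.card F ^ 2) (1, 0)
    rw [pow_of_even hE ha even_two, hA] at h4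
    have h5 := congrArg Prod.snd (e.symm.injective h4)
    change A (1, 0) = (A ^ (Nat.card F ^ 2)) (1, 0) at h5
    rw [hγ, hαβ] at h5
    have h6 : α * 1 + β * 0 = α ^ (Nat.card F ^ 2) * 1 + γ * 0 := congrArg Prod.fst h5
    rw [mul_one, mul_zero, mul_one, mul_zero, add_zero, add_zero] at h6
    exact h6.symm
  have h4 : α ^ Nat.card F = α := by
    rw [ht.hd.frob, ← pow_mul, ← pow_add, pow_pow_odd h3 _ hpar] at h2
    exact h2.symm
  -- conclusion
  have h5 : (a ^ Nat.card F - a) *ᵥ e.symm (0, (1, 0)) = 0 := by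
    obtain ⟨γ, hγ⟩ := shape_pow hαβ (Nat.card F)
    rw [Matrix.sub_mulVec, hA, hAn, hγ, hαβ, h4, sub_eq_zero]
    congr 2
    refine Prod.ext ?_ rfl
    change α * 1 + γ * 0 = α * 1 + β * 0
    rw [mul_zero, mul_zero]
  have h6 : e.symm ((0 : Fin (2 * j) → F), ((1 : K), (0 : K))) ≠ 0 := by
    intro h0
    have h7 := (LinearEquiv.map_eq_zero_iff e.symm).1 h0
    exact one_ne_zero (congrArg (fun z : (Fin (2 * j) → F) × (K × K) => z.2.1) h7)
  exact sub_eq_zero.1 (field_inj hE (E.sub_mem (E.pow_mem ha _) ha) h6 h5)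

end par

end Cfsg.Agent.H688.Spr
end

-- part: H688/Spr/RowT
section
prune_inst 0x300000000000000000000000000000000
set_option linter.all false
open scoped Cfsg.Agent.FastGrp

/-!
# S3938, orthogonal groups of minus type: the row with the element `neg j + Tm` (helper688)

The only invariant subspaces of the element of dimension less than `2 j` are `W1` (totally singular of dimension `2 h`) and
`W2` (of plus type and dimension `4 h`).
-/

set_option autoImplicit false
set_option linter.unusedSectionVars false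

namespace Cfsg.Agent.H688.Spr

open Cfsg Cfsg.Geo Module
open Cfsg.Agent.H278.Cov Cfsg.Agent.H383.Cov Cfsg.Agent.H688.Cov
open Cfsg.Agent.H424.Spr (Spr)
open Cfsg.Agent.LieClassical.OrthCore (Nondeg)
open Cfsg.Agent.H377 (HasSign sumQ sumQ_apply sumQ_nondeg elt_tor_minus prodMap_pow' orderOf_prodMap
  nondegenerate_of_nondeg)
open scoped MatrixGroups Matrix

section wu

variable {ι : Type} [Fintype ι] [DecidableEq ι] {F : Type} [Field F] [Finite F] {V V' : Type} [AddCommGroup V]
  [Module F V] [Finite V] [AddCommGroup V'] [Module F V'] [Finite V'] {e : (ι → F) ≃ₗ[F] (V × V')}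

/-- the subspace `0 × U` -/
def WU (e : (ι → F) ≃ₗ[F] (V × V')) (U : Submodule F V') : Submodule F (ι → F) :=
  ((⊥ : Submodule F V).prod U).comap (e : (ι → F) →ₗ[F] (V × V'))

theorem mem_WU {U : Submodule F V'} {v : ι → F} : v ∈ WU e U ↔ (e v).1 = 0 ∧ (e v).2 ∈ U := by
  rw [WU, Submodule.mem_comap, Submodule.mem_prod, Submodule.mem_bot]
  rfl

theorem finrank_WU (U : Submodule F V') : finrank F (WU e U) = finrank F U := by
  have : FiniteDimensional F V := Module.Finite.of_finite
  have : FiniteDimensional F V' := Module.Finite.of_finite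
  have h1 : (WU e U).map (e : (ι → F) →ₗ[F] (V × V')) = (⊥ : Submodule F V).prod U := by
    rw [WU]
    exact Submodule.map_comap_eq_of_surjective e.surjective _
  rw [← finrank_map_e (e := e), h1, finrank_submodule_prod, finrank_bot, zero_add]

theorem eq_WU {W : Submodule F (ι → F)} (h : ∀ w ∈ W, (e w).1 = 0) :
    W = WU e ((W.map (e : (ι → F) →ₗ[F] (V × V'))).map (LinearMap.snd F V V')) := by
  ext v
  rw [mem_WU]
  constructor
  · intro hv
    exact ⟨h v hv, ⟨e v, ⟨v, hv, rfl⟩, rfl⟩⟩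
  · rintro ⟨h1, ⟨-, ⟨w, hw, rfl⟩, hwv⟩⟩
    have h2 : e w = e v := Prod.ext ((h w hw).trans h1.symm) hwv
    rw [← e.injective h2]
    exact hw

end wu

section row

variable {ι : Type} [Fintype ι] [DecidableEq ι] {F : Type} [Field F] [Finite F] {Q : QuadraticForm F (ι → F)}
  {K : Type} [Field K] [Finite K] [Algebra F K] {σ : K ≃ₐ[F] K} {c ε : K} {h j N s s' : ℕ} {x : GL ι F}
  {Q₁ : QuadraticForm F (Fin (2 * j) → F)} {S : Module.End F (Fin (2 * j) → F)}
  {e : (ι → F) ≃ₗ[F] ((Fin (2 * j) → F) × (K × K))}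

theorem TD.small (ht : TD Q h j σ c ε x Q₁ S e N s s') {W : Submodule F (ι → F)}
    (hW : ∀ w ∈ W, (x : Matrix ι ι F) *ᵥ w ∈ W) (hd : finrank F W < 2 * j) :
    W = ⊥ ∨ W = WU e ((⊤ : Submodule F K).prod ⊥) ∨ W = WU e ⊤ := by
  have hfd : FiniteDimensional F K := Module.Finite.of_finite
  have hq : 2 ≤ Nat.card F := Finite.one_lt_card
  obtain ⟨h1, hodd, hcq, hN1, hj⟩ := num_facts hq ht.num
  have h2 : ∀ w ∈ W, (e w).1 = 0 := by
    intro w hw
    exact fst_zero (T := Tm F c ε) ht.s1 ht.t1 ht.pow hcq ht.num.prim ht.ker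
      (by rwa [finrank_map_e]) (ht.isM.inv_map hW) (Submodule.mem_map_of_mem hw)
  have h3 := eq_WU h2
  set U := (W.map (e : (ι → F) →ₗ[F] ((Fin (2 * j) → F) × (K × K)))).map (LinearMap.snd F _ _) with hU
  have h4 : ∀ u ∈ U, Tm F c ε u ∈ U := by
    rintro _ ⟨w, hw, rfl⟩
    exact ⟨_, ht.isM.inv_map hW w hw, rfl⟩
  rcases ht.hd.invs h4 with h5 | h5 | h5
  · left
    rw [h3, h5, Submodule.eq_bot_iff]
    intro v hv
    rw [mem_WU] at hv
    exact (LinearEquiv.map_eq_zero_iff e).1 (Prod.ext hv.1 ((Submodule.mem_bot F).1 hv.2))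
  · right; left
    rw [h3, h5]
  · right; right
    rw [h3, h5]

theorem TD.rank1 (ht : TD Q h j σ c ε x Q₁ S e N s s') :
    finrank F (WU e ((⊤ : Submodule F K).prod (⊥ : Submodule F K))) = 2 * h := by
  have hfd : FiniteDimensional F K := Module.Finite.of_finite
  rw [finrank_WU, finrank_submodule_prod, finrank_top, finrank_bot, add_zero, ht.hd.dim]

theorem TD.rank2 (ht : TD Q h j σ c ε x Q₁ S e N s s') : finrank F (WU e (⊤ : Submodule F (K × K))) = 4 * h := by
  have hfd : FiniteDimensional F K := Module.Finite.of_finite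
  rw [finrank_WU, finrank_top, Module.finrank_prod, ht.hd.dim]
  ring

/-- **the row** -/
theorem row_T [Nonempty ι] (hQ : Nondeg Q) (og : OgO ι F) {m h j N : ℕ} (hcard : Fintype.card ι = 2 * m)
    (hjh : j + 2 * h = m) (h1 : 1 ≤ h) (h2 : h ≤ 2) (hpar : Odd (j + h))
    (hnum : Num (Nat.card F) (Fintype.card ι) (2 * j) N) (hmod : Mod Q m (-1))
    [IsSimpleGroup (POmega F ⇑Q)] (hna : ∃ x y : POmega F ⇑Q, x * y ≠ y * x) : Spr (POmega F ⇑Q) := by
  have h5 : 5 ≤ Fintype.card ι := by have := hnum.ten; omega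
  have hlt := hnum.lt
  obtain ⟨K, _, _, _, σ, c, ε, hd⟩ := exists_HD F h1
  obtain ⟨x, Q₁, S, e, s, s', ht⟩ := exists_TD hQ hcard hjh hnum hd hmod
  have hr1 := ht.rank1
  have hr2 := ht.rank2
  have hne : ∀ W : Submodule F (ι → F), 1 ≤ finrank F W → finrank F W < Fintype.card ι → W ≠ ⊥ ∧ W ≠ ⊤ := by
    intro W ha hb
    constructor
    · rintro rfl
      rw [finrank_bot] at ha
      omega
    · rintro rfl
      rw [finrank_top, Module.finrank_fintype_fun_eq_card] at hb
      omega
  obtain ⟨a1, b1⟩ := hne _ (by rw [hr1]; omega) (by rw [hr1]; omega)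
  obtain ⟨a2, b2⟩ := hne _ (by rw [hr2]; omega) (by rw [hr2]; omega)
  have hxT : ∀ v, e ((x : Matrix ι ι F) *ᵥ v) = (S (e v).1, Tm F c ε (e v).2) := by
    intro v
    rw [ht.isM.apply, e.apply_symm_apply]
    rfl
  refine spr_gl hQ h5 hna ht.mem (neg_one_mem_stab (WU e ((⊤ : Submodule F K).prod ⊥)))
    (neg_one_mem_stab (WU e (⊤ : Submodule F (K × K)))) (not_le_stab hQ h5 a1 b1) (not_le_stab hQ h5 a2 b2) ?_ ?_
  · intro y hy hyM
    have hx2 : x ∈ subspaceStabilizer (WU e (⊤ : Submodule F (K × K))) := by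
      rw [mem_stab]
      intro w hw
      rw [mem_WU] at hw ⊢
      rw [hxT, hw.1]
      exact ⟨map_zero S, trivial⟩
    have hx1 := (hyM x ht.mem).1 hx2
    rw [mem_stab] at hx1
    set W := (WU e ((⊤ : Submodule F K).prod (⊥ : Submodule F K))).map (Matrix.toLin' (y : Matrix ι ι F)) with hW
    have hWx : ∀ w ∈ W, (x : Matrix ι ι F) *ᵥ w ∈ W := by
      rintro _ ⟨w, hw, rfl⟩
      refine ⟨_, hx1 w hw, ?_⟩
      rw [Matrix.toLin'_apply, Matrix.toLin'_apply, Matrix.mulVec_mulVec, Matrix.mulVec_mulVec, ← Units.val_mul,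
        ← Units.val_mul]
      congr 2
      group
    have hWr : finrank F W = 2 * h := by rw [hW, finrank_map_gl, hr1]
    have hWe : W = WU e ((⊤ : Submodule F K).prod ⊥) := by
      rcases ht.small hWx (by omega) with h3 | h3 | h3
      · rw [h3, finrank_bot] at hWr
        omega
      · exact h3
      · rw [h3, hr2] at hWr
        omega
    have hy1 : y ∈ subspaceStabilizer (WU e ((⊤ : Submodule F K).prod (⊥ : Submodule F K))) := by
      rw [mem_stab]
      intro w hw
      have h3 : (y : Matrix ι ι F) *ᵥ w ∈ W := ⟨w, hw, rfl⟩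
      rwa [hWe] at h3
    intro g hg
    rw [hyM g hg, Subgroup.mul_mem_cancel_right _ hy1, Subgroup.mul_mem_cancel_left _ (Subgroup.inv_mem _ hy1)]
  · intro H hH hHne hxH
    have hst : ∀ W : Submodule F (ι → F), (∀ g ∈ H, ∀ w ∈ W, (g : Matrix ι ι F) *ᵥ w ∈ W) →
        H ≤ subspaceStabilizer W := fun W hW g hg => mem_stab.2 (hW g hg)
    by_cases hred : Red H
    · obtain ⟨W, hW0, hWd, hW⟩ := exists_small hQ (hH.trans omegaGL_le) hred
      rcases ht.small (hW x hxH) (by omega) with h3 | h3 | h3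
      · exact absurd h3 hW0
      · left
        rw [← h3]
        exact hst W hW
      · right
        rw [← h3]
        exact hst W hW
    · exfalso
      rcases og _ _ (isND hQ) H hH hHne (x ^ s) (H.pow_mem hxH s) (by rw [ht.ord]; exact hnum) with h3 | ⟨r, E, hr, hrd, hE, hN⟩
      · exact hred h3
      · have hr2 : r = 2 := by
          have h4 : r ∣ Fintype.card ι - 2 * j :=
            Nat.dvd_sub (hrd.trans (Nat.gcd_dvd_left _ _)) (hrd.trans (Nat.gcd_dvd_right _ _))
          have h6 : Fintype.card ι - 2 * j = 4 * h := by omega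
          rw [h6] at h4
          have h7 : r ∣ 2 ^ 3 := h4.trans (by
            interval_cases h
            · exact ⟨2, by norm_num⟩
            · exact ⟨1, by norm_num⟩)
          exact (Nat.prime_dvd_prime_iff_eq hr Nat.prime_two).1 (hr.dvd_of_dvd_pow h7)
        subst hr2
        exact ht.no_ext hQ (hH.trans omegaGL_le) hred hE hN hxH hpar

end row

end Cfsg.Agent.H688.Spr

private theorem dce_de3628239b59 : _root_.True := by
  try have : _root_.True := by simp only [_root_.Cfsg.Agent.H688.Spr.WU.eq_1]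
  exact _root_.True.intro
end

-- part: H688/Spr/Fields
section
prune_inst 0x401400000336002000000050410203c52c6000000006b0000e1000a4007812d43e0420760b6502201411020644038802002000009424000000e200400411900a080804000a248010424001f800800000000000000300000000000000000000000000000000
set_option linter.all false
open scoped Cfsg.Agent.FastGrp

/-!
# S3938, orthogonal groups of minus type: the row with an irreducible element (helper688)

* `field_unique` : two fields of matrices of the same degree centralised by an irreducible element are equal;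
* `row_field` : `Spr (PΩ⁻_{2m}(q))` when `2 m` has at most two prime divisors.
-/

set_option autoImplicit false
set_option linter.unusedSectionVars false

namespace Cfsg.Agent.H688.Spr

open Cfsg Cfsg.Geo Module
open Cfsg.Agent.H278.Cov Cfsg.Agent.H383.Cov Cfsg.Agent.H688.Cov
open Cfsg.Agent.H424.Spr (Spr)
open Cfsg.Agent.LieClassical.OrthCore (Nondeg)
open scoped MatrixGroups Matrix

universe u

section unique

variable {ι : Type} [Fintype ι] [DecidableEq ι] {F : Type u} [Field F] [Finite F]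

/-- an endomorphism commuting with an irreducible `x` is zero or injective -/
theorem schur {x a : Matrix ι ι F} (hirr : ∀ W : Submodule F (ι → F), (∀ w ∈ W, x *ᵥ w ∈ W) → W = ⊥ ∨ W = ⊤)
    (hc : x * a = a * x) (ha : a ≠ 0) {v : ι → F} (hv : a *ᵥ v = 0) : v = 0 := by
  rcases hirr (LinearMap.ker (Matrix.toLin' a)) (by
    intro w hw
    rw [LinearMap.mem_ker, Matrix.toLin'_apply] at hw ⊢
    rw [Matrix.mulVec_mulVec, ← hc, ← Matrix.mulVec_mulVec, hw, Matrix.mulVec_zero]) with h | h
  · have h1 : v ∈ LinearMap.ker (Matrix.toLin' a) := by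
      rw [LinearMap.mem_ker, Matrix.toLin'_apply, hv]
    rw [h] at h1
    exact (Submodule.mem_bot F).1 h1
  · exfalso
    apply ha
    rw [LinearMap.ker_eq_top] at h
    exact Matrix.toLin'.injective (by rw [h, map_zero])

theorem mem_adjoin [Nonempty ι] {x a : Matrix ι ι F}
    (hirr : ∀ W : Submodule F (ι → F), (∀ w ∈ W, x *ᵥ w ∈ W) → W = ⊥ ∨ W = ⊤)
    (hc : x * a = a * x) : a ∈ Algebra.adjoin F {x} := by
  obtain ⟨h, hh⟩ := exists_aeval (g := Matrix.toLin' x) (e := Matrix.toLin' a) (Y := ⊤) (by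
    change Matrix.toLin' a * Matrix.toLin' x = Matrix.toLin' x * Matrix.toLin' a
    change Matrix.toLin' a ∘ₗ Matrix.toLin' x = Matrix.toLin' x ∘ₗ Matrix.toLin' a
    rw [← Matrix.toLin'_mul, ← Matrix.toLin'_mul, hc]) (fun _ _ => trivial) (fun _ _ => trivial) (by
    intro W _ hW
    exact hirr W fun w hw => hW w hw) (by
      intro h
      exact bot_ne_top h.symm)
  have h1 : a = Polynomial.aeval x h := by
    apply Matrix.toLin'.injective
    apply LinearMap.ext
    intro v
    rw [hh v trivial]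
    have h2 : Polynomial.aeval (Matrix.toLin' x) h = Matrix.toLin' (Polynomial.aeval x h) := by
      have h3 := Polynomial.aeval_algHom_apply (Matrix.toLinAlgEquiv' : Matrix ι ι F ≃ₐ[F] _) x h
      exact h3
    rw [h2]
  rw [h1]
  exact Polynomial.aeval_mem_adjoin_singleton F x

open Polynomial in
/-- **uniqueness of the field** -/
theorem field_le [Nonempty ι] {x : Matrix ι ι F}
    (hirr : ∀ W : Submodule F (ι → F), (∀ w ∈ W, x *ᵥ w ∈ W) → W = ⊥ ∨ W = ⊤) {r : ℕ}
    {E E' : Subalgebra F (Matrix ι ι F)} (hE : IsFieldSubalgebra r E) (hE' : IsFieldSubalgebra r E')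
    (hc : ∀ e ∈ E, x * e = e * x) (hc' : ∀ e ∈ E', x * e = e * x) : E' ≤ E := by
  classical
  have := Fintype.ofFinite F
  let _ : CommRing (Algebra.adjoin F {x}) := Algebra.adjoinCommRingOfComm F (by
    intro a ha b hb
    rw [Set.mem_singleton_iff.1 ha, Set.mem_singleton_iff.1 hb])
  have hcD : ∀ a ∈ Algebra.adjoin F {x}, x * a = a * x := by
    intro a ha
    have h1 := mul_comm (⟨x, Algebra.self_mem_adjoin_singleton F x⟩ : Algebra.adjoin F {x}) ⟨a, ha⟩
    exact congrArg Subtype.val h1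
  have : NoZeroDivisors (Algebra.adjoin F {x}) := ⟨by
    intro a b hab
    by_cases ha : a = 0
    · exact Or.inl ha
    · right
      apply Subtype.ext
      have ha' : (a : Matrix ι ι F) ≠ 0 := fun h => ha (Subtype.ext h)
      have hab' : (a : Matrix ι ι F) * (b : Matrix ι ι F) = 0 := congrArg Subtype.val hab
      apply Matrix.toLin'.injective
      apply LinearMap.ext
      intro v
      rw [Matrix.toLin'_apply]
      have h1 : (a : Matrix ι ι F) *ᵥ ((b : Matrix ι ι F) *ᵥ v) = 0 := by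
        rw [Matrix.mulVec_mulVec, hab', Matrix.zero_mulVec]
      rw [schur hirr (hcD a a.2) ha' h1]
      change (0 : ι → F) = Matrix.toLin' (0 : Matrix ι ι F) v
      rw [map_zero, LinearMap.zero_apply]⟩
  have : Nontrivial (Algebra.adjoin F {x}) := by
    refine ⟨⟨0, 1, fun h => ?_⟩⟩
    have h1 : (0 : Matrix ι ι F) = 1 := congrArg Subtype.val h
    exact zero_ne_one h1
  have : IsDomain (Algebra.adjoin F {x}) := NoZeroDivisors.to_isDomain _
  have hED : ∀ e ∈ E, e ∈ Algebra.adjoin F {x} := fun e he => mem_adjoin hirr (hc e he)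
  have hED' : ∀ e ∈ E', e ∈ Algebra.adjoin F {x} := fun e he => mem_adjoin hirr (hc' e he)
  have hfinE : Finite E := inferInstance
  have := Fintype.ofFinite E
  have hcard : Fintype.card E = Fintype.card F ^ r := by
    rw [← Nat.card_eq_fintype_card, Cfsg.Agent.H907.card_K hE]
  have hpos : 0 < Fintype.card F ^ r - 1 := by
    have h1 : 1 < Fintype.card E := by
      have : Nontrivial E := ⟨⟨0, 1, fun h => by
        have h1 : (0 : Matrix ι ι F) = 1 := congrArg Subtype.val h
        exact zero_ne_one h1⟩⟩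
      exact Fintype.one_lt_card
    omega
  -- the nonzero elements of `E`
  let g : E → Algebra.adjoin F {x} := fun e => ⟨e, hED e e.2⟩
  have hg : Function.Injective g := fun a b hab => Subtype.ext (congrArg (fun z : Algebra.adjoin F {x} => (z : Matrix ι ι F)) hab)
  set fE : Finset (Algebra.adjoin F {x}) := ((Finset.univ : Finset E).erase 0).image g with hfE
  have hfEcard : fE.card = Fintype.card F ^ r - 1 := by
    rw [hfE, Finset.card_image_of_injective _ hg, Finset.card_erase_of_mem (Finset.mem_univ _), Finset.card_univ, hcard]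
  have hval : ∀ (z : Algebra.adjoin F {x}) (n : ℕ), ((z ^ n : Algebra.adjoin F {x}) : Matrix ι ι F) =
      (z : Matrix ι ι F) ^ n := by
    intro z n
    induction n with
    | zero => rw [pow_zero, pow_zero]; rfl
    | succ n ih => rw [pow_succ, pow_succ, ← ih]; rfl
  intro e he
  by_contra hne
  have he0 : e ≠ 0 := by
    rintro rfl
    exact hne E.zero_mem
  set e' : Algebra.adjoin F {x} := ⟨e, hED' e he⟩ with he'
  have hnot : e' ∉ fE := by
    intro h
    rw [hfE, Finset.mem_image] at h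
    obtain ⟨a, -, ha⟩ := h
    apply hne
    have : (a : Matrix ι ι F) = e := congrArg (fun z : Algebra.adjoin F {x} => (z : Matrix ι ι F)) ha
    rw [← this]
    exact a.2
  have hsub : insert e' fE ⊆ (nthRoots (Fintype.card F ^ r - 1) (1 : Algebra.adjoin F {x})).toFinset := by
    intro z hz
    rw [Multiset.mem_toFinset, mem_nthRoots hpos]
    apply Subtype.ext
    rw [hval]
    rcases Finset.mem_insert.1 hz with rfl | hz
    · exact Cfsg.Agent.H907.pow_card_sub_one hE' he he0
    · rw [hfE, Finset.mem_image] at hz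
      obtain ⟨a, ha, rfl⟩ := hz
      refine Cfsg.Agent.H907.pow_card_sub_one hE a.2 ?_
      intro h0
      exact (Finset.mem_erase.1 ha).1 (Subtype.ext h0)
  have h1 := Finset.card_le_card hsub
  rw [Finset.card_insert_of_notMem hnot, hfEcard] at h1
  have h2 := Multiset.toFinset_card_le (nthRoots (Fintype.card F ^ r - 1) (1 : Algebra.adjoin F {x}))
  have h3 := card_nthRoots (Fintype.card F ^ r - 1) (1 : Algebra.adjoin F {x})
  omega

theorem field_unique [Nonempty ι] {x : Matrix ι ι F}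
    (hirr : ∀ W : Submodule F (ι → F), (∀ w ∈ W, x *ᵥ w ∈ W) → W = ⊥ ∨ W = ⊤) {r : ℕ}
    {E E' : Subalgebra F (Matrix ι ι F)} (hE : IsFieldSubalgebra r E) (hE' : IsFieldSubalgebra r E')
    (hc : ∀ e ∈ E, x * e = e * x) (hc' : ∀ e ∈ E', x * e = e * x) : E' = E :=
  le_antisymm (field_le hirr hE hE' hc hc') (field_le hirr hE' hE hc' hc)

/-- conjugation -/
def cj (y : GL ι F) : Matrix ι ι F →ₐ[F] Matrix ι ι F where
  toFun a := (y : Matrix ι ι F) * a * ((y⁻¹ : GL ι F) : Matrix ι ι F)
  map_one' := by rw [mul_one, ← Units.val_mul, mul_inv_cancel, Units.val_one]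
  map_mul' a b := by
    have h : ((y⁻¹ : GL ι F) : Matrix ι ι F) * (y : Matrix ι ι F) = 1 := by
      rw [← Units.val_mul, inv_mul_cancel, Units.val_one]
    calc (y : Matrix ι ι F) * (a * b) * ((y⁻¹ : GL ι F) : Matrix ι ι F)
        = (y : Matrix ι ι F) * a * 1 * b * ((y⁻¹ : GL ι F) : Matrix ι ι F) := by simp only [mul_one, mul_assoc]
      _ = _ := by rw [← h]; simp only [mul_assoc]
  map_zero' := by rw [mul_zero, zero_mul]
  map_add' a b := by rw [mul_add, add_mul]
  commutes' c := by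
    rw [← Algebra.commutes, mul_assoc, ← Units.val_mul, mul_inv_cancel, Units.val_one, mul_one]

theorem cj_apply (y : GL ι F) (a : Matrix ι ι F) :
    cj y a = (y : Matrix ι ι F) * a * ((y⁻¹ : GL ι F) : Matrix ι ι F) := rfl

theorem cj_mul (y z : GL ι F) (a : Matrix ι ι F) : cj (y * z) a = cj y (cj z a) := by
  rw [cj_apply, cj_apply, cj_apply, mul_inv_rev, Units.val_mul, Units.val_mul]
  simp only [mul_assoc]

theorem cj_one (a : Matrix ι ι F) : cj (1 : GL ι F) a = a := by
  rw [cj_apply, inv_one, Units.val_one, one_mul, mul_one]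

theorem cj_injective (y : GL ι F) : Function.Injective (cj y : Matrix ι ι F → Matrix ι ι F) := by
  intro a b h
  have h1 := congrArg (cj y⁻¹) h
  rwa [← cj_mul, ← cj_mul, inv_mul_cancel, cj_one, cj_one] at h1

theorem cj_field (y : GL ι F) {r : ℕ} {E : Subalgebra F (Matrix ι ι F)} (hE : IsFieldSubalgebra r E) :
    IsFieldSubalgebra r (E.map (cj y)) where
  comm := by
    rintro _ ⟨a, ha, rfl⟩ _ ⟨b, hb, rfl⟩
    change cj y a * cj y b = cj y b * cj y a
    rw [← map_mul, ← map_mul, hE.comm a ha b hb]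
  inv := by
    rintro _ ⟨a, ha, rfl⟩ h0
    obtain ⟨b, hb, hab⟩ := hE.inv a ha (by
      rintro rfl
      exact h0 (map_zero _))
    refine ⟨cj y b, ⟨b, hb, rfl⟩, ?_⟩
    change cj y a * cj y b = 1
    rw [← map_mul, hab, map_one]
  finrank_eq := by
    rw [← hE.finrank_eq]
    exact ((Subalgebra.equivMapOfInjective E (cj y) (cj_injective y)).toLinearEquiv.finrank_eq).symm

theorem mem_normalizer_iff {g : GL ι F} {E : Subalgebra F (Matrix ι ι F)} :
    g ∈ subalgebraNormalizer E ↔ ∀ k, k ∈ E ↔ cj g k ∈ E := Iff.rfl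

theorem mem_map_cj {y : GL ι F} {E : Subalgebra F (Matrix ι ι F)} {a : Matrix ι ι F} :
    a ∈ E.map (cj y) ↔ cj y⁻¹ a ∈ E := by
  constructor
  · rintro ⟨b, hb, rfl⟩
    change cj y⁻¹ (cj y b) ∈ E
    rwa [← cj_mul, inv_mul_cancel, cj_one]
  · intro h
    refine ⟨_, h, ?_⟩
    change cj y (cj y⁻¹ a) = a
    rw [← cj_mul, mul_inv_cancel, cj_one]

theorem mem_normalizer_map {y g : GL ι F} {E : Subalgebra F (Matrix ι ι F)} :
    g ∈ subalgebraNormalizer (E.map (cj y)) ↔ y⁻¹ * g * y ∈ subalgebraNormalizer E := by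
  rw [mem_normalizer_iff, mem_normalizer_iff]
  constructor
  · intro h k
    have h1 := h (cj y k)
    rw [mem_map_cj, mem_map_cj, ← cj_mul, ← cj_mul, ← cj_mul, inv_mul_cancel, cj_one] at h1
    exact h1
  · intro h k
    have h1 := h (cj y⁻¹ k)
    rw [mem_map_cj, mem_map_cj, ← cj_mul]
    rw [← cj_mul, show y⁻¹ * g * y * y⁻¹ = y⁻¹ * g by group] at h1
    exact h1

theorem neg_one_mem_normalizer (E : Subalgebra F (Matrix ι ι F)) : (-1 : GL ι F) ∈ subalgebraNormalizer E := by
  rw [mem_normalizer_iff]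
  intro k
  have h : cj (-1 : GL ι F) k = k := by
    rw [cj_apply, inv_neg, inv_one, Units.val_neg, Units.val_one, neg_one_mul, mul_neg_one, neg_neg]
  rw [h]

end unique

section row

variable {ι : Type} [Fintype ι] [DecidableEq ι] {F : Type} [Field F] [Finite F] {Q : QuadraticForm F (ι → F)}

/-- **the row with an irreducible element** -/
theorem row_field [Nonempty ι] (hQ : Nondeg Q) (og : OgO ι F) {m N r₀ : ℕ} (hcard : Fintype.card ι = 2 * m)
    (hmod : _root_.Cfsg.Agent.H688.Cov.Mod Q m (-1)) (hN : Num (Nat.card F) (Fintype.card ι) (2 * m) N)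
    (hr₀ : ∀ r : ℕ, r.Prime → r ∣ 2 * m → r = 2 ∨ r = r₀)
    (hz : ∃ z ∈ omegaGL ⇑Q, KillAt 2 z ∧ (r₀.Prime → r₀ ≠ 2 → r₀ ∣ m → KillAt r₀ z))
    [IsSimpleGroup (POmega F ⇑Q)] (hna : ∃ x y : POmega F ⇑Q, x * y ≠ y * x) : Spr (POmega F ⇑Q) := by
  have h5 : 5 ≤ Fintype.card ι := by have := hN.ten; omega
  obtain ⟨x, hx, ⟨i, hblk, hodd, hdv, hnum⟩, -⟩ := negTriv hQ hcard (j := m) (c := 0) rfl hN hmod
  set s := x ^ i with hs
  have hsO : s ∈ omegaGL ⇑Q := Subgroup.pow_mem _ hx i
  have hirr : ∀ W : Submodule F (ι → F), (∀ w ∈ W, (s : Matrix ι ι F) *ᵥ w ∈ W) → W = ⊥ ∨ W = ⊤ := by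
    intro W hW
    rcases hblk.finrank_cases hW with h | h
    · left
      exact Submodule.finrank_eq_zero.1 (by omega)
    · right
      apply Submodule.eq_top_of_finrank_eq
      have := Submodule.finrank_le W
      rw [Module.finrank_fintype_fun_eq_card] at this ⊢
      omega
  obtain ⟨z, hzO, hz2, hzr⟩ := hz
  -- the order of `s` is prime to `2 m`
  have hcop : ∀ r : ℕ, r.Prime → r ∣ 2 * m → (orderOf s).Coprime r := by
    intro r hr hrm
    rw [Nat.coprime_comm, Nat.Prime.coprime_iff_not_dvd hr]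
    intro hrs
    have h1 := num_facts Finite.one_lt_card hnum
    have hnq : ¬ r ∣ Nat.card F := by
      intro h
      have h2 := Nat.dvd_gcd hrs h
      rw [h1.2.2.1] at h2
      exact hr.one_lt.ne' (Nat.dvd_one.1 h2)
    have : Fact r.Prime := ⟨hr⟩
    have h2 : r ∣ Nat.card F ^ (r - 1) - 1 := by
      have h3 : Nat.card F ^ (r - 1) ≡ 1 [MOD r] := by
        have h4 := Nat.ModEq.pow_totient (n := r) (x := Nat.card F)
          (Nat.Coprime.symm ((Nat.Prime.coprime_iff_not_dvd hr).2 hnq))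
        rwa [Nat.totient_prime hr] at h4
      exact (Nat.modEq_iff_dvd' (Nat.one_le_pow _ _ Nat.card_pos)).1 h3.symm
    have hrle : r ≤ 2 * m := Nat.le_of_dvd (by omega) hrm
    have h3 := hnum.prim (r - 1) (by have := hr.two_le; omega) (by have := hr.two_le; omega)
    have h4 := Nat.dvd_gcd hrs h2
    rw [h3] at h4
    exact hr.one_lt.ne' (Nat.dvd_one.1 h4)
  have hcomm : ∀ {r : ℕ}, r.Prime → r ∣ 2 * m → ∀ {E : Subalgebra F (Matrix ι ι F)}, IsFieldSubalgebra r E →
      s ∈ subalgebraNormalizer E → ∀ e ∈ E, (s : Matrix ι ι F) * e = e * s := by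
    intro r hr hrm E hE hsE e he
    exact comm_of_coprime hE hsE (hcop r hr hrm) he
  have huniq : ∀ {r : ℕ}, r.Prime → r ∣ 2 * m → ∀ {E E' : Subalgebra F (Matrix ι ι F)}, IsFieldSubalgebra r E →
      IsFieldSubalgebra r E' → s ∈ subalgebraNormalizer E → s ∈ subalgebraNormalizer E' → E' = E := by
    intro r hr hrm E E' hE hE' hsE hsE'
    exact field_unique hirr hE hE' (hcomm hr hrm hE hsE) (hcomm hr hrm hE' hsE')
  have hkill : ∀ {r : ℕ}, r.Prime → r ∣ 2 * m → ∀ {E : Subalgebra F (Matrix ι ι F)}, IsFieldSubalgebra r E →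
      ¬ omegaGL ⇑Q ≤ subalgebraNormalizer E := by
    intro r hr hrm E hE hle
    have hzE := hle hzO
    by_cases h2 : r = 2
    · subst h2
      exact hz2.not_mem hr hE hzE
    · rcases hr₀ r hr hrm with h | h
      · exact h2 h
      · subst h
        have h3 : r ∣ m := ((Nat.coprime_primes hr Nat.prime_two).2 h2).dvd_of_dvd_mul_left hrm
        exact (hzr hr h2 h3).not_mem hr hE hzE
  -- the overgroups
  have hcover : ∀ K : Subgroup (GL ι F), K ≤ omegaGL ⇑Q → K ≠ omegaGL ⇑Q → s ∈ K →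
      ∃ (r : ℕ) (E : Subalgebra F (Matrix ι ι F)), r.Prime ∧ r ∣ 2 * m ∧ IsFieldSubalgebra r E ∧
        K ≤ subalgebraNormalizer E := by
    intro K hK hne hsK
    rcases og _ _ (isND hQ) K hK hne s hsK hnum with h | ⟨r, E, hr, hrd, hE, hN⟩
    · exfalso
      obtain ⟨W, h0, h1, hW⟩ := h
      rcases hirr W fun w hw => (hW hsK w).1 hw with h | h
      · exact h0 h
      · exact h1 h
    · exact ⟨r, E, hr, hrd.trans ((Nat.gcd_dvd_right _ _)), hE, hN⟩
  by_cases hA : ∃ (r : ℕ) (E : Subalgebra F (Matrix ι ι F)), r.Prime ∧ r ∣ 2 * m ∧ IsFieldSubalgebra r E ∧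
      s ∈ subalgebraNormalizer E
  · obtain ⟨r, E, hr, hrd, hE, hsE⟩ := hA
    by_cases hB : ∃ (r' : ℕ) (E' : Subalgebra F (Matrix ι ι F)), r'.Prime ∧ r' ∣ 2 * m ∧ IsFieldSubalgebra r' E' ∧
      s ∈ subalgebraNormalizer E' ∧ r' ≠ r
    · obtain ⟨r', E', hr', hrd', hE', hsE', hrr⟩ := hB
      refine spr_gl hQ h5 hna hsO (neg_one_mem_normalizer E) (neg_one_mem_normalizer E') (hkill hr hrd hE)
        (hkill hr' hrd' hE') ?_ ?_
      · intro y _ hy g hg
        have h1 : s ∈ subalgebraNormalizer (E.map (cj y)) := by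
          rw [mem_normalizer_map]
          exact (hy s hsO).1 hsE'
        have h2 := huniq hr hrd hE (cj_field y hE) hsE h1
        rw [hy g hg, ← mem_normalizer_map, h2]
      · intro K hK hne hsK
        obtain ⟨r'', E'', hr'', hrd'', hE'', hKE⟩ := hcover K hK hne hsK
        have h3 : r'' = r ∨ r'' = r' := by
          have a1 := hr₀ r hr hrd
          have a2 := hr₀ r' hr' hrd'
          have a3 := hr₀ r'' hr'' hrd''
          omega
        rcases h3 with rfl | rfl
        · left
          rw [← huniq hr hrd hE hE'' hsE (hKE hsK)]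
          exact hKE
        · right
          rw [← huniq hr' hrd' hE' hE'' hsE' (hKE hsK)]
          exact hKE
    · refine spr_gl hQ h5 hna hsO (neg_one_mem_normalizer E) (neg_one_mem_normalizer E) (hkill hr hrd hE)
        (hkill hr hrd hE) (fun _ _ _ _ _ => Iff.rfl) ?_
      intro K hK hne hsK
      left
      obtain ⟨r'', E'', hr'', hrd'', hE'', hKE⟩ := hcover K hK hne hsK
      have h3 : r'' = r := by
        by_contra h
        exact hB ⟨r'', E'', hr'', hrd'', hE'', hKE hsK, h⟩
      subst h3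
      rw [← huniq hr hrd hE hE'' hsE (hKE hsK)]
      exact hKE
  · -- no overgroup at all
    obtain ⟨u, hu0, -⟩ := exists_sing (Q := Q) h5
    have hne0 : Submodule.span F {u} ≠ ⊥ := by
      rw [Ne, Submodule.span_singleton_eq_bot]
      exact hu0
    have hne1 : Submodule.span F {u} ≠ ⊤ := by
      intro h
      have h1 := finrank_span_singleton (K := F) hu0
      rw [h, finrank_top, Module.finrank_fintype_fun_eq_card] at h1
      omega
    refine spr_gl hQ h5 hna hsO (neg_one_mem_stab (Submodule.span F {u})) (neg_one_mem_stab (Submodule.span F {u}))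
      (not_le_stab hQ h5 hne0 hne1) (not_le_stab hQ h5 hne0 hne1) (fun _ _ _ _ _ => Iff.rfl) ?_
    intro K hK hne hsK
    exfalso
    obtain ⟨r'', E'', hr'', hrd'', hE'', hKE⟩ := hcover K hK hne hsK
    exact hA ⟨r'', E'', hr'', hrd'', hE'', hKE hsK⟩

end row

end Cfsg.Agent.H688.Spr
end
end
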